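import Cfsg.Agent.Mrg.Omega.NO3S.CaseLW.QWex
import Cfsg.Agent.Mrg.Omega.NO3S.CaseLW.QWa


/-!
# THEOREM QW in box R, step (α) (helper733 #27230 (s3), #27386; helper866 #24897 (2), (3)): `U = ⟨V*^F⟩ ≤ O₂(M)`, `|Z| ≥ 4`

`M` is a 2-local over `S`, `Z_M = ⟨Z^M⟩ = zl S M`, `F ≤ C_G(Z)`, `V ≤ O₂(C_G(z))` for all `1 ≠ z ∈ Z`, `|Z| ≥ 4`, `q = 2`.

* `exists_fix` : an element which acts on the elementary abelian `Z_M` as a transvection centralises some `1 ≠ z ∈ Z`;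
* `cent_zl4` : `Z_M` centralises `U ≤ O₂(C_M(Z))` ((ML), Baer-Suzuki, `exists_fix`);
* `hex4` : its hypothesis over `FrL`, from a conjugate `Z_M^(y⁻¹) ≤ B` which moves `V`;
* **`U_le_o2`** : `U ≤ O₂(M)`.
-/

set_option autoImplicit false
set_option linter.unusedSectionVars false

namespace Cfsg.Agent.Omega.NOThreeL.QWR.Alpha

open Subgroup Cfsg Cfsg.Agent.ZN Cfsg.Agent.ZN.ChoiceBase Cfsg.Agent.Omega.MinPar
open Cfsg.Agent.MinSimple.VModule (o2_isPGroup)
open Cfsg.Agent.Omega.FrameNOFF (CZ)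
open Cfsg.Agent.Omega.NO3b.EZero (cl cl_le le_cl cj_le_cl le_normalizer_cl)
open Cfsg.Agent.Omega.ML.Final (MLK)
open Cfsg.Agent.Omega.ML.GMod (ZD)
open Cfsg.Agent.Omega.OM.Lev.Uni (FrL)
open Cfsg.Agent.Omega.NO3S.CaseLW

universe u

variable {G : Type u} [Group G] [Finite G]

/-- An element which acts on `Z` by `x ↦ x` or `x ↦ x c` centralises an element `≠ 1` of `Z`, `|Z| ≥ 4`. -/
theorem exists_fix {Z : Subgroup G} (h4 : 4 ≤ Nat.card Z) {w c : G}
    (hw : ∀ x ∈ Z, w * x * w⁻¹ = x ∨ w * x * w⁻¹ = x * c) : ∃ z ∈ Z, z ≠ 1 ∧ w * z = z * w := by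
  classical
  by_contra hcon
  push Not at hcon
  have key : ∀ x ∈ Z, ∀ y ∈ Z, w * (x * y⁻¹) = x * y⁻¹ * w → x = y := fun x hx y hy h1 => by
    by_contra hne
    exact hcon _ (mul_mem hx (inv_mem hy)) (fun e => hne (mul_inv_eq_one.1 e)) h1
  let f : Z → Bool := fun x => decide (w * (x : G) * w⁻¹ = x)
  have hf : Function.Injective f := by
    rintro ⟨x, hx⟩ ⟨y, hy⟩ e
    have e' : (w * x * w⁻¹ = x) ↔ (w * y * w⁻¹ = y) := by
      have h1 : decide (w * x * w⁻¹ = x) = decide (w * y * w⁻¹ = y) := e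
      exact decide_eq_decide.1 h1
    refine Subtype.ext (key x hx y hy ?_)
    have h2 : w * (x * y⁻¹) * w⁻¹ = x * y⁻¹ := by
      have h3 : w * (x * y⁻¹) * w⁻¹ = (w * x * w⁻¹) * (w * y * w⁻¹)⁻¹ := by group
      by_cases h4 : w * x * w⁻¹ = x
      · rw [h3, h4, e'.1 h4]
      · have h5 : ¬ w * y * w⁻¹ = y := fun h6 => h4 (e'.2 h6)
        have h6 := (hw x hx).resolve_left h4
        have h7 := (hw y hy).resolve_left h5
        rw [h3, h6, h7]
        group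
    exact mul_inv_eq_iff_eq_mul.1 h2
  have h1 := Nat.card_le_card_of_injective f hf
  have h2 : Nat.card Bool = 2 := by rw [Nat.card_eq_fintype_card]; rfl
  omega

variable (S : Sylow 2 G) {M : Subgroup G}

/-- **(2)**, `|Z| ≥ 4`, `q = 2`: `Z_M` centralises `U ≤ O₂(C_M(Z))`. -/
theorem cent_zl4 (hG : IsCharacteristicTwoType G) (ml : MLK.{u, u}) (h : IsLoc (S : Subgroup G) M) (hK : IsKGroup M)
    (h4 : 4 ≤ Nat.card (zc (S : Subgroup G))) {U : Subgroup G} (hU2 : ∀ x ∈ U, x * x = 1)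
    (hUO : U ≤ o2 (M ⊓ centralizer (zc (S : Subgroup G) : Set G)))
    (hex : (centralizer (zl (S : Subgroup G) M : Set G)).relIndex U ≤
        (centralizer (U : Set G)).relIndex (zl (S : Subgroup G) M) →
      ¬ U ≤ centralizer (zl (S : Subgroup G) M : Set G) →
        ∃ w ∈ U, ∃ c : G, w ∉ centralizer (zl (S : Subgroup G) M : Set G) ∧
          (∀ x ∈ zl (S : Subgroup G) M, w * x * w⁻¹ = x ∨ w * x * w⁻¹ = x * c) ∧
          ∀ z ∈ zc (S : Subgroup G), z ≠ 1 → w ∈ o2 (centralizer ({z} : Set G))) :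
    U ≤ centralizer (zl (S : Subgroup G) M : Set G) := by
  by_contra hn
  have hsq : ∀ v ∈ zl (S : Subgroup G) M, v * v = 1 := fun v hv => by
    have h1 := (ChoiceBase.mem_zc.1 (IsLoc.zl_le S hG h hv)).2.1
    rwa [sq] at h1
  have D : ZD M (zl (S : Subgroup G) M) (zc (S : Subgroup G)) (S : Subgroup G) U :=
    { nV := MinSimple.VModule.le_normalizer_zl _ _
      sq := hsq
      ZV := MinSimple.VModule.zc_le_zl _ _
      gen := fun X h1 h2 => MinSimple.VModule.zl_le h1 h2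
      TL := h.le
      two := S.isPGroup'
      odd := MinSimple.Basic.not_dvd_relIndex S h.le
      TZ := le_centralizer_zc _
      AO := hUO
      Asq := fun a ha => by rw [hU2 a ha]; exact one_mem _ }
  obtain ⟨w, hw, c, hwn, hT, hwo⟩ := hex (D.gml ml hK) hn
  have hwM : w ∈ M := ((hUO.trans (o2_le _)).trans inf_le_left) hw
  obtain ⟨m, hm, hodd⟩ := QW.exists_odd (H := M) (MinSimple.VModule.le_normalizer_zl (S : Subgroup G) M)
    (QW.red_zl S h.le) hwM (hU2 w hw) hwn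
  have hT' : ∀ x ∈ zc (S : Subgroup G), m * w * m⁻¹ * x * (m * w * m⁻¹)⁻¹ = x ∨
      m * w * m⁻¹ * x * (m * w * m⁻¹)⁻¹ = x * (m * c * m⁻¹) := by
    intro x hx
    have hx' : m⁻¹ * x * m ∈ zl (S : Subgroup G) M := by
      have h1 := (mem_normalizer_iff.1 (MinSimple.VModule.le_normalizer_zl (S : Subgroup G) M (inv_mem hm)) x).1
        (MinSimple.VModule.zc_le_zl _ _ hx)
      rwa [inv_inv] at h1
    have e : m * w * m⁻¹ * x * (m * w * m⁻¹)⁻¹ = m * (w * (m⁻¹ * x * m) * w⁻¹) * m⁻¹ := by group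
    rcases hT _ hx' with h1 | h1
    · left
      rw [e, h1]
      group
    · right
      rw [e, h1]
      group
  obtain ⟨z, hz, hz1, hzw⟩ := exists_fix h4 hT'
  have hww' : m * w * m⁻¹ * (m * w * m⁻¹) = 1 := by
    have e : m * w * m⁻¹ * (m * w * m⁻¹) = m * (w * w) * m⁻¹ := by group
    rw [e, hU2 w hw]
    group
  obtain ⟨k, hk⟩ := QW.common' (A := o2 (centralizer ({z} : Set G))) (o2_isPGroup _) (hwo z hz hz1) hww'
    fun a ha => QW.o2_conj_mem (mem_centralizer_singleton_iff.2 hzw) ha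
  exact hodd k (by rw [hk]; exact one_mem _)

section fr

variable {ι : Type*} {B Q V X ZJ F : Subgroup G} {L W Z C A : ι → Subgroup G}

/-- the hypothesis of `cent_zl4` -/
theorem hex4 (fr : FrL B Q V X ZJ L W Z C A 2) (hF : F ≤ CZ (S : Subgroup G))
    (lowz : ∀ z ∈ zc (S : Subgroup G), z ≠ 1 → V ≤ o2 (centralizer ({z} : Set G)))
    (hsq : ∀ x ∈ zl (S : Subgroup G) M, x * x = 1)
    {y : G} (hy : y ∈ F) (hyB : cj y⁻¹ (zl (S : Subgroup G) M) ≤ B)
    (hyV : ¬ cj y⁻¹ (zl (S : Subgroup G) M) ≤ centralizer (V : Set G)) :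
    ∃ w ∈ cl V F, ∃ c : G, w ∉ centralizer (zl (S : Subgroup G) M : Set G) ∧
      (∀ x ∈ zl (S : Subgroup G) M, w * x * w⁻¹ = x ∨ w * x * w⁻¹ = x * c) ∧
      ∀ z ∈ zc (S : Subgroup G), z ≠ 1 → w ∈ o2 (centralizer ({z} : Set G)) := by
  classical
  obtain ⟨i, hi⟩ := QWex.exists_blk fr hyB hyV
  obtain ⟨w, hw, hwn⟩ := SetLike.not_le_iff_exists.1 hi
  -- the element of order 2 of `Z i`
  have hZi : ∃ c : G, ∀ t ∈ Z i, t = 1 ∨ t = c := by
    have h2 := fr.cardZ i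
    by_contra hcon
    push Not at hcon
    obtain ⟨a, ha, ha1, -⟩ := hcon 1
    obtain ⟨b, hb, hb1, hba⟩ := hcon a
    have hfin : Finite (Z i) := Nat.finite_of_card_ne_zero (by rw [h2]; norm_num)
    have h3 : ({⟨1, one_mem _⟩, ⟨a, ha⟩, ⟨b, hb⟩} : Finset (Z i)).card = 3 := by
      rw [Finset.card_eq_three]
      exact ⟨_, _, _, fun e => ha1 (congrArg Subtype.val e).symm, fun e => hb1 (congrArg Subtype.val e).symm,
        fun e => hba (congrArg Subtype.val e).symm, rfl⟩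
    have : Fintype (Z i) := Fintype.ofFinite _
    have h5 := Finset.card_le_univ ({⟨1, one_mem _⟩, ⟨a, ha⟩, ⟨b, hb⟩} : Finset (Z i))
    rw [h3, ← Nat.card_eq_fintype_card, h2] at h5
    omega
  obtain ⟨c, hc⟩ := hZi
  refine ⟨y * w * y⁻¹, cj_le_cl hy ⟨w, fr.WV i hw, rfl⟩, y * c * y⁻¹, fun h1 => hwn ?_, ?_, ?_⟩
  · rw [← cj_centralizer, mem_cj]
    have e : y⁻¹⁻¹ * w * y⁻¹ = y * w * y⁻¹ := by group
    rwa [e]
  · intro x hx
    have hx' : y⁻¹ * x * y ∈ B := hyB (by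
      rw [mem_cj]
      have e : y⁻¹⁻¹ * (y⁻¹ * x * y) * y⁻¹ = x := by group
      rwa [e])
    have hxx : (y⁻¹ * x * y)⁻¹ = y⁻¹ * x * y := by
      have hxi : x⁻¹ = x := inv_eq_of_mul_eq_one_left (hsq x hx)
      calc (y⁻¹ * x * y)⁻¹ = y⁻¹ * x⁻¹ * y := by group
        _ = _ := by rw [hxi]
    have ht := (fr.blk i).com _ hx' w hw
    set x' := y⁻¹ * x * y with hx'd
    have ex : x = y * x' * y⁻¹ := by rw [hx'd]; group
    set t := x' * w * x'⁻¹ * w⁻¹ with htd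
    -- `w x' w⁻¹ = x' t`
    have htB : x' * t = t * x' := (fr.blk i).cZ _ hx' t ht
    have hwx : w * x' * w⁻¹ = x' * t := by
      have e1 : x' * w * x' * w⁻¹ = t := by
        rw [htd]
        conv_rhs => rw [hxx]
      calc w * x' * w⁻¹ = x'⁻¹ * (x' * w * x' * w⁻¹) := by group
        _ = x'⁻¹ * t := by rw [e1]
        _ = x' * t := by rw [hxx]
    have e2 : y * w * y⁻¹ * x * (y * w * y⁻¹)⁻¹ = y * (w * x' * w⁻¹) * y⁻¹ := by
      rw [ex]; group
    rcases hc t ht with h1 | h1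
    · left
      rw [e2, hwx, h1, mul_one, ← ex]
    · right
      rw [e2, hwx, h1, ex]
      group
  · intro z hz hz1
    have h1 : y ∈ centralizer ({z} : Set G) := (centralizer_le (Set.singleton_subset_iff.2 hz) :
      centralizer (zc (S : Subgroup G) : Set G) ≤ centralizer ({z} : Set G)) (hF hy)
    exact QW.o2_conj_mem h1 (lowz z hz hz1 (fr.WV i hw))

/-- **(α)** : `⟨V*^F⟩ ≤ O₂(M)`. -/
theorem U_le_o2 (hG : IsCharacteristicTwoType G) (ml : MLK.{u, u}) (hM : IsLoc (S : Subgroup G) M) (hK : IsKGroup M)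
    (h4 : 4 ≤ Nat.card (zc (S : Subgroup G))) (fr : FrL B Q V X ZJ L W Z C A 2) (hF : F ≤ CZ (S : Subgroup G))
    (low : V ≤ o2 (CZ (S : Subgroup G)))
    (lowz : ∀ z ∈ zc (S : Subgroup G), z ≠ 1 → V ≤ o2 (centralizer ({z} : Set G)))
    (hU2 : ∀ x ∈ cl V F, x * x = 1)
    (line : (centralizer (zl (S : Subgroup G) M : Set G)).relIndex (cl V F) ≤
        (centralizer (cl V F : Set G)).relIndex (zl (S : Subgroup G) M) →
      ¬ cl V F ≤ centralizer (zl (S : Subgroup G) M : Set G) →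
        ∃ y ∈ F, cj y⁻¹ (zl (S : Subgroup G) M) ≤ B ∧
          ¬ cj y⁻¹ (zl (S : Subgroup G) M) ≤ centralizer (V : Set G)) :
    cl V F ≤ o2 M := by
  have hS : (S : Subgroup G) ≠ ⊥ := fun hb => by
    have h1 : Nat.card (zc (S : Subgroup G)) ≤ Nat.card (S : Subgroup G) :=
      Nat.card_le_card_of_injective _ (Subgroup.inclusion_injective (ZN.zc_le _))
    rw [hb, Subgroup.card_bot] at h1
    rw [hb] at h4
    omega
  have hUZ : cl V F ≤ o2 (CZ (S : Subgroup G)) := cl_le fun y hy => by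
    have h1 := cj_mono y low
    rwa [cj_eq_of_mem_normalizer (MinSimple.VModule.le_normalizer_o2 _ (hF hy))] at h1
  have hsq : ∀ v ∈ zl (S : Subgroup G) M, v * v = 1 := fun v hv => by
    have h1 := (ChoiceBase.mem_zc.1 (IsLoc.zl_le S hG hM hv)).2.1
    rwa [sq] at h1
  refine QW.le_o2_M S hM.le hS (cent_zl4 S hG ml hM hK h4 hU2 (hUZ.trans (QW.oz_le S hM.le hS)) fun off hne => ?_) hUZ
  obtain ⟨y, hy, h1, h2⟩ := line off hne
  exact hex4 S fr hF lowz hsq hy h1 h2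

end fr

end Cfsg.Agent.Omega.NOThreeL.QWR.Alpha
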