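import Cfsg.Agent.Mrg.Omega.NOThreeL.RRed.BFr.Top
import Cfsg.Agent.Mrg.Omega.NOThreeL.QWR.Sw.Base


/-!
# NO-3L, box R, one class, top level `(Q, V*)`: the ground frame `LtV`

* **`ltV_of`** : `LtV S V* Q` from the frame over `B`;
* **`exists_top`** : frame, `LtV` and `hM` at once from the blocks; `exists_crA` : with `OffR` also helper587's `CrA`;
* `zv_eq`, `bv_eq` : `ZK`, `BK` and `TopM`'s `ZV`, `BV`.
-/

set_option autoImplicit false
set_option linter.unusedSectionVars false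

namespace Cfsg.Agent.Omega.NOThreeL.QWR.FrTop

open Subgroup Cfsg Cfsg.Agent.Omega.MinPar Cfsg.Agent.Omega.Frame Cfsg.Agent.Omega.FrameNOFF
open Cfsg.Agent.ZN.ChoiceBase Cfsg.Agent.ZN.ChoiceSit
open Cfsg.Agent.ZN (zc zl o2 zj bau jj)
open Cfsg.Agent.Omega.NO3S.Level (lev Lev nxt)
open Cfsg.Agent.Omega.OM.SwapK (ZK BK WL)
open Cfsg.Agent.Omega.OM.Lev.Uni (FrL)
open Cfsg.Agent.Omega.OM.SwapV (CrA)
open Cfsg.Agent.Omega.NOThreeL.RZ (RR)
open Cfsg.Agent.Omega.NOThreeL.RTree (RB)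
open Cfsg.Agent.Omega.NOThreeL.Merge (MZ)
open Cfsg.Agent.Omega.NOThreeL.RRed (Wd)
open Cfsg.Agent.Omega.NOThreeL.RRed.FourTree (Bks nxtX)
open Cfsg.Agent.Omega.NOThreeL.QWR.Sw (LtV OffR)

universe u

variable {G : Type u} [Group G] [Finite G] {S : Sylow 2 G}

/-- `ZK S Q` is `TopM`'s `ZV S` -/
theorem zv_eq (hl : Lev (S : Subgroup G) (QT (S : Subgroup G))) (hz : zc (QT (S : Subgroup G)) = Wd (S : Subgroup G)) :
    ZK (S : Subgroup G) (QT (S : Subgroup G)) = ZV (S : Subgroup G) := by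
  have h7 : nxtX (S : Subgroup G) (Wd (S : Subgroup G)) = nxt (S : Subgroup G) (QT (S : Subgroup G)) := by
    rw [← nxtX_zc, hz]
  rw [zk_eq hl hz, ZV, h7]

/-- `BK S Q` is `TopM`'s `BV S` -/
theorem bv_eq (hl : Lev (S : Subgroup G) (QT (S : Subgroup G))) (hz : zc (QT (S : Subgroup G)) = Wd (S : Subgroup G)) :
    BK (S : Subgroup G) (QT (S : Subgroup G)) = BV (S : Subgroup G) := by
  have h7 : nxtX (S : Subgroup G) (Wd (S : Subgroup G)) = nxt (S : Subgroup G) (QT (S : Subgroup G)) := by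
    rw [← nxtX_zc, hz]
  rw [bk_eq hl hz, BV, h7]

/-- **`LtV S V* Q`.** -/
theorem ltV_of {ι : Type} [Finite ι] {Q X : Subgroup G} {L W Z C A : ι → Subgroup G} (R : RB S) (wl : WL S Q)
    (hX : zc Q = Wd (S : Subgroup G))
    (fr : FrL (BK (S : Subgroup G) Q) Q (Wd (S : Subgroup G)) X (ZK (S : Subgroup G) Q) L W Z C A 2)
    (hL : ∀ i, L i ≤ MZ (S : Subgroup G)) : LtV S (Wd (S : Subgroup G)) Q where
  wl := wl
  zcQ := hX
  char2 := R.ctx.char2
  low := low R wl hX.ge fr hL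
  noff := noff R wl hX fr hL

section blocks

variable {I : Type u} [Fintype I] [DecidableEq I] {N E : I → Subgroup G} {Om : I → Type u}
  [∀ i, Fintype (Om i)] [∀ i, DecidableEq (Om i)] {phi : ∀ i, Finset (Om i) → G}

/-- **The frame at `(Q, V*)`, with `LtV` and `hM`.** -/
theorem exists_top (B : RB S) (hr : RR (S : Subgroup G) = ⊥) (hB : Bks S N E ⊥ Om phi)
    (irr : ∀ U : Subgroup G, U ≤ Wd (S : Subgroup G) → MZ (S : Subgroup G) ≤ normalizer (U : Set G) → U ≠ ⊥ →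
      Wd (S : Subgroup G) ≤ U) (wl : WL S (QT (S : Subgroup G)))
    (hz : zc (QT (S : Subgroup G)) = Wd (S : Subgroup G)) :
    LtV S (Wd (S : Subgroup G)) (QT (S : Subgroup G)) ∧
    ∃ (ι : Type) (_ : Finite ι) (L W Z C A : ι → Subgroup G), Nonempty ι ∧
      (∑ i, Fintype.card (Om i)) ≤ 2 * Nat.card ι + Fintype.card I ∧ (∀ i, L i ≤ MZ (S : Subgroup G)) ∧
      FrL (BK (S : Subgroup G) (QT (S : Subgroup G))) (QT (S : Subgroup G)) (Wd (S : Subgroup G)) (Wd (S : Subgroup G))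
        (ZK (S : Subgroup G) (QT (S : Subgroup G))) L W Z C A 2 ∧
      ∀ i j, ∃ g ∈ MZ (S : Subgroup G), g ∈ normalizer (BK (S : Subgroup G) (QT (S : Subgroup G)) : Set G) ∧
        cj g (W i) = W j := by
  obtain ⟨ι, i1, L, W, Z, C, A, h1, h2, h3, h4, h5⟩ := frLM_top B hr hB irr wl.lev hz
  exact ⟨ltV_of B wl hz h4 h3, ι, i1, L, W, Z, C, A, h1, h2, h3, h4, h5⟩

/-- The same with `CrA`. -/
theorem exists_crA (B : RB S) (hr : RR (S : Subgroup G) = ⊥) (hB : Bks S N E ⊥ Om phi)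
    (irr : ∀ U : Subgroup G, U ≤ Wd (S : Subgroup G) → MZ (S : Subgroup G) ≤ normalizer (U : Set G) → U ≠ ⊥ →
      Wd (S : Subgroup G) ≤ U) (wl : WL S (QT (S : Subgroup G)))
    (hz : zc (QT (S : Subgroup G)) = Wd (S : Subgroup G))
    (ho : OffR S (Wd (S : Subgroup G)) (QT (S : Subgroup G))) :
    LtV S (Wd (S : Subgroup G)) (QT (S : Subgroup G)) ∧
    ∃ (ι : Type) (_ : Finite ι) (L W Z C A : ι → Subgroup G), Nonempty ι ∧
      (∑ i, Fintype.card (Om i)) ≤ 2 * Nat.card ι + Fintype.card I ∧ (∀ i, L i ≤ MZ (S : Subgroup G)) ∧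
      FrL (BK (S : Subgroup G) (QT (S : Subgroup G))) (QT (S : Subgroup G)) (Wd (S : Subgroup G)) (Wd (S : Subgroup G))
        (ZK (S : Subgroup G) (QT (S : Subgroup G))) L W Z C A 2 ∧
      CrA S (nxt (S : Subgroup G) (QT (S : Subgroup G))) (BK (S : Subgroup G) (QT (S : Subgroup G)))
        (Wd (S : Subgroup G)) (ZK (S : Subgroup G) (QT (S : Subgroup G))) L W Z C A ∧
      ∀ i j, ∃ g ∈ MZ (S : Subgroup G), g ∈ normalizer (BK (S : Subgroup G) (QT (S : Subgroup G)) : Set G) ∧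
        cj g (W i) = W j := by
  obtain ⟨hlt, ι, i1, L, W, Z, C, A, h1, h2, h3, h4, h5⟩ := exists_top B hr hB irr wl hz
  exact ⟨hlt, ι, i1, L, W, Z, C, A, h1, h2, h3, h4, hlt.crA h4 ho, h5⟩

end blocks

end Cfsg.Agent.Omega.NOThreeL.QWR.FrTop
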