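import Cfsg.Agent.Mrg.Omega.NOThreeL.QWR.Alpha
import Cfsg.Agent.Mrg.Omega.NOThreeL.RRed.BFr.Top
import Cfsg.Agent.Mrg.Omega.NOThreeL.QWR.LowM
import Cfsg.Agent.Mrg.Omega.ML.LieTwF4
import Cfsg.Agent.Mrg.Omega.NOThreeL.QWR.LtVOf

section


/-!
# THEOREM QW in box R, step (α) over the frame at `(Q, V*)`: `U = ⟨V*^F⟩ ≤ O₂(M)`, `|Z| ≥ 4`, `q = 2`

`RB S`, `M ≥ MZ S` local, `Q = C_S(V*) ≤ T ≤ S`, `F ≤ C_G(Z)`.

* `zl_le_Q` : `Z_M ≤ Q`; `zl_ex` : `Z_M` is `Ex` as soon as it offends on `U`; `line` : some `Z_M^(y⁻¹) ≤ B` moves `V*`;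
* **`hUM`** : `U ≤ O₂(M)` from the two corollaries `exCj`, `exB` of QW (1);
* **`hUM_of`** : the hypothesis `hUM` of `QWR.exists_best_odd` over `WR S (MZ S) T Y`, `Y ≤ C_G(Z)`, `|Z| ≥ 4`, `q = 2`;
* **`exists_best`** : THEOREM QW over `WR S (MZ S) T Y`, `Y ≤ C_G(Z)`, `|Z| ≥ 4`, `q = 2`.
-/

set_option autoImplicit false
set_option linter.unusedSectionVars false

namespace Cfsg.Agent.Omega.NOThreeL.QWR.AlphaOf

open Subgroup Cfsg Cfsg.Agent.ZN Cfsg.Agent.ZN.ChoiceBase Cfsg.Agent.Omega.MinPar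
open Cfsg.Agent.Omega.FrameNOFF (CZ)
open Cfsg.Agent.Omega.NO3b.EZero (cl cl_le le_cl cj_le_cl le_normalizer_cl)
open Cfsg.Agent.Omega.NO3S.CaseLW.QWc
open Cfsg.Agent.Omega.ML.Final (MLK)
open Cfsg.Agent.Omega.OM.Lev.Uni (FrL)
open Cfsg.Agent.Omega.NOThreeL.RTree (RB)
open Cfsg.Agent.Omega.NOThreeL.Merge (MZ)
open Cfsg.Agent.Omega.NOThreeL.RRed (Wd)

universe u

variable {G : Type u} [Group G] [Finite G] {S : Sylow 2 G} {M T F : Subgroup G}

section zm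

variable (R : RB S) (hM : IsLoc (S : Subgroup G) M)
include R hM

theorem zl_sq {v : G} (hv : v ∈ zl (S : Subgroup G) M) : v ^ 2 = 1 :=
  (ChoiceBase.mem_zc.1 (hM.zl_le S R.ctx.char2 hv)).2.1

theorem zl_comm {v w : G} (hv : v ∈ zl (S : Subgroup G) M) (hw : w ∈ zl (S : Subgroup G) M) : v * w = w * v := by
  have h1 := ChoiceBase.mem_zc.1 (hM.zl_le S R.ctx.char2 hv)
  exact (h1.2.2 w (ZN.zc_le _ (hM.zl_le S R.ctx.char2 hw))).symm

variable (hP : MZ (S : Subgroup G) ≤ M)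
include hP

theorem Wd_le : Wd (S : Subgroup G) ≤ zl (S : Subgroup G) M :=
  MinSimple.VModule.zl_le (MinSimple.VModule.zc_le_zl _ _) (hP.trans (MinSimple.VModule.le_normalizer_zl _ _))

/-- `Z_M ≤ Q = C_S(V*)` -/
theorem zl_le_Q : zl (S : Subgroup G) M ≤ (S : Subgroup G) ⊓ centralizer (Wd (S : Subgroup G) : Set G) :=
  le_inf (((hM.zl_le S R.ctx.char2).trans (ZN.zc_le _)).trans (hM.o2_le S)) fun _ hv =>
    mem_centralizer_iff.2 fun _ hw => zl_comm R hM (Wd_le R hM hP hw) hv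

/-- `Z_M` is exact on `U` as soon as it offends on `U`. -/
theorem zl_ex (QT : (S : Subgroup G) ⊓ centralizer (Wd (S : Subgroup G) : Set G) ≤ T) {U : Subgroup G}
    (off : (centralizer (zl (S : Subgroup G) M : Set G)).relIndex U ≤
      (centralizer (U : Set G)).relIndex (zl (S : Subgroup G) M)) : Ex T U (zl (S : Subgroup G) M) := by
  refine Ex.of_rel ((zl_le_Q R hM hP).trans QT) ⟨fun a ha => ?_, fun a ha b hb => ?_⟩ off
  · rw [zl_sq R hM ha]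
    exact one_mem _
  · have e : a * b * a⁻¹ * b⁻¹ = 1 := by
      rw [zl_comm R hM ha hb]
      group
    rw [e]
    exact one_mem _

/-- **the line** : some `A' = Z_M^(y⁻¹)` lies in `B` and moves `V*`. -/
theorem line {B : Subgroup G} (QT : (S : Subgroup G) ⊓ centralizer (Wd (S : Subgroup G) : Set G) ≤ T)
    (exCj : ∀ A, Ex T (cl (Wd (S : Subgroup G)) F) A → ∀ y ∈ F, Ex T (cl (Wd (S : Subgroup G)) F) (cj y A))
    (exB : ∀ A, Ex T (cl (Wd (S : Subgroup G)) F) A → A ≤ B)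
    (off : (centralizer (zl (S : Subgroup G) M : Set G)).relIndex (cl (Wd (S : Subgroup G)) F) ≤
      (centralizer (cl (Wd (S : Subgroup G)) F : Set G)).relIndex (zl (S : Subgroup G) M))
    (hne : ¬ cl (Wd (S : Subgroup G)) F ≤ centralizer (zl (S : Subgroup G) M : Set G)) :
    ∃ y ∈ F, cj y⁻¹ (zl (S : Subgroup G) M) ≤ B ∧
      ¬ cj y⁻¹ (zl (S : Subgroup G) M) ≤ centralizer (Wd (S : Subgroup G) : Set G) := by
  have x := zl_ex R hM hP QT off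
  obtain ⟨y, hy, hyV⟩ : ∃ y ∈ F, ¬ zl (S : Subgroup G) M ≤ centralizer (cj y (Wd (S : Subgroup G)) : Set G) := by
    by_contra hcon
    push Not at hcon
    exact hne (cl_le fun y hy => le_centralizer_iff.1 (hcon y hy))
  refine ⟨y, hy, exB _ (exCj _ x _ (F.inv_mem hy)), fun h1 => hyV ?_⟩
  have h2 := cj_mono y h1
  rwa [cj_cj_inv, cj_centralizer] at h2

/-- **(α) over the frame at `(Q, V*)`.** -/
theorem hUM {ι : Type*} {B Q X ZJ : Subgroup G} {L W Z C A : ι → Subgroup G}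
    (ml : MLK.{u, u}) (hK : IsKGroup M) (h4 : 4 ≤ Nat.card (zc (S : Subgroup G)))
    (fr : FrL B Q (Wd (S : Subgroup G)) X ZJ L W Z C A 2)
    (low : Wd (S : Subgroup G) ≤ o2 (CZ (S : Subgroup G)))
    (lowz : ∀ z ∈ zc (S : Subgroup G), z ≠ 1 → Wd (S : Subgroup G) ≤ o2 (centralizer ({z} : Set G)))
    (hF : F ≤ CZ (S : Subgroup G)) (hU2 : ∀ x ∈ cl (Wd (S : Subgroup G)) F, x * x = 1)
    (QT : (S : Subgroup G) ⊓ centralizer (Wd (S : Subgroup G) : Set G) ≤ T)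
    (exCj : ∀ A, Ex T (cl (Wd (S : Subgroup G)) F) A → ∀ y ∈ F, Ex T (cl (Wd (S : Subgroup G)) F) (cj y A))
    (exB : ∀ A, Ex T (cl (Wd (S : Subgroup G)) F) A → A ≤ B) : cl (Wd (S : Subgroup G)) F ≤ o2 M :=
  Alpha.U_le_o2 S R.ctx.char2 ml hM hK h4 fr hF low lowz hU2 (line R hM hP QT exCj exB)

end zm

section wr

open Cfsg.Agent.MinSimple.VModule (oddGen)
open Cfsg.Agent.Omega.NO1.BestOff (Best)

variable {Y : Subgroup G}

/-- `U` is elementary abelian -/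
theorem U_sq (h : WR S (MZ (S : Subgroup G)) T Y) : ∀ x ∈ cl (zl (S : Subgroup G) (MZ (S : Subgroup G))) Y, x * x = 1 := by
  intro x hx
  have h1 := (ChoiceBase.mem_zc.1 ((U_le h h.md_zl).trans h.zl_GR_le hx)).2.1
  rwa [sq] at h1

variable {ι : Type*} {Q X ZJ : Subgroup G} {L W Z C A : ι → Subgroup G}

/-- **The hypothesis `hUM` of `QWR.exists_best_odd`.** -/
theorem hUM_of (R : RB S) (ml : MLK.{u, u}) (h4 : 4 ≤ Nat.card (zc (S : Subgroup G)))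
    (fr : FrL (BB (S : Subgroup G) (MZ (S : Subgroup G))) Q (Wd (S : Subgroup G)) X ZJ L W Z C A 2)
    (lowz : ∀ z ∈ zc (S : Subgroup G), z ≠ 1 → Wd (S : Subgroup G) ≤ o2 (centralizer ({z} : Set G)))
    (h : WR S (MZ (S : Subgroup G)) T Y) (hY : Y ≤ CZ (S : Subgroup G))
    (hM : IsLoc (S : Subgroup G) M) (hP : MZ (S : Subgroup G) ≤ M)
    (neg : Neg T Y (cl (zl (S : Subgroup G) (MZ (S : Subgroup G))) Y)) :
    cl (zl (S : Subgroup G) (MZ (S : Subgroup G))) Y ≤ o2 M :=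
  hUM (F := Y) (T := T) R hM hP ml (ML.GNN.kgroup_of_isLoc R.ctx R.ctx.not_isPGroup hM) h4 fr h.rq.low lowz hY (U_sq h) h.QT
    (fun _ x _ hy => ex_cj h neg x hy) fun _ x => ex_le_BB h neg x

/-- **THEOREM QW**, `|Z| ≥ 4`, `q = 2`, `Y ≤ C_G(Z)`. -/
theorem exists_best (R : RB S) (ml : MLK.{u, u}) (h4 : 4 ≤ Nat.card (zc (S : Subgroup G)))
    (fr : FrL (BB (S : Subgroup G) (MZ (S : Subgroup G))) Q (Wd (S : Subgroup G)) X ZJ L W Z C A 2)
    (lowz : ∀ z ∈ zc (S : Subgroup G), z ≠ 1 → Wd (S : Subgroup G) ≤ o2 (centralizer ({z} : Set G)))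
    (h : WR S (MZ (S : Subgroup G)) T Y) (BT : BB (S : Subgroup G) (MZ (S : Subgroup G)) ≤ T)
    (hY : Y ≤ CZ (S : Subgroup G)) (hM : IsLoc (S : Subgroup G) M) (hP : MZ (S : Subgroup G) ≤ M)
    (hD : centralizer (ZZ (S : Subgroup G) (MZ (S : Subgroup G)) : Set G) ≤ M)
    (hYZ : ¬ oddGen Y ≤ centralizer (ZZ (S : Subgroup G) (MZ (S : Subgroup G)) : Set G)) :
    ∃ A ≤ T, Best (cl (zl (S : Subgroup G) (MZ (S : Subgroup G))) Y) A ∧
      ¬ A ≤ centralizer (cl (zl (S : Subgroup G) (MZ (S : Subgroup G))) Y : Set G) ∧ ¬ A ≤ o2 Y :=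
  exists_best_odd h BT hD hP hYZ (hUM_of R ml h4 fr lowz h hY hM hP)

end wr

end Cfsg.Agent.Omega.NOThreeL.QWR.AlphaOf

end

section


/-!
# THEOREM QW at the top level `(Q, V*)` of box R, `|Z| ≥ 4`, `q = 2`: helper587's `OffR S V* Q`

`Q = C_S(V*)`, `Ω₁Z(Q) = V*`.

* the bridge : `jj_eq` : `JJ S M₀ = nxt S Q`, `zz_eq` : `ZZ S M₀ = ZK S Q`, `bb_eq` : `BB S M₀ = BK S Q`; `cl_eq`;
* `wr_of` : helper733's `WR S M₀ T F` from the hypotheses of `OffR`;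
* **`offR_of`** : `OffR` from THEOREM QW (helper733), `U ≤ O₂(M)` as a hypothesis under `Neg`; no condition on `q`;
* **`offR_top`** : `OffR` for `|Z| ≥ 4`, `q = 2`, over any local `M ≥ C_G(Z_J), MZ S`.
-/

set_option autoImplicit false
set_option linter.unusedSectionVars false

namespace Cfsg.Agent.Omega.NOThreeL.QWR.OffTop

open Subgroup Cfsg Cfsg.Agent.Omega.MinPar Cfsg.Agent.ZN.ChoiceBase Cfsg.Agent.ZN.ChoiceSit
open Cfsg.Agent.ZN (zc zl o2 jj)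
open Cfsg.Agent.MinSimple.MinParabolic (IsMinPar)
open Cfsg.Agent.MinSimple.VModule (oddGen)
open Cfsg.Agent.Omega.FrameNOFF (CZ)
open Cfsg.Agent.Omega.NO3b.EZero (cl cl_le le_cl cj_le_cl le_normalizer_cl)
open Cfsg.Agent.Omega.NO3S.Level (lev Lev nxt)
open Cfsg.Agent.Omega.NO3S.CaseLW.QWc (Neg)
open Cfsg.Agent.Omega.ML.Final (MLK)
open Cfsg.Agent.Omega.OM.Lev.Uni (FrL)
open Cfsg.Agent.Omega.OM.SwapK (WL BK ZK)
open Cfsg.Agent.Omega.NOThreeL.RTree (RB)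
open Cfsg.Agent.Omega.NOThreeL.RRed (Wd)
open Cfsg.Agent.Omega.NOThreeL.RRed.FourTree (nxtX)
open Cfsg.Agent.Omega.NOThreeL.Merge (MZ)
open Cfsg.Agent.Omega.NOThreeL.QWR.Sw (OffR)

universe u

variable {G : Type u} [Group G]

/-- `⟨V^F⟩` in the two notations -/
theorem cl_eq (V F : Subgroup G) : NoFF.Basic.V V F = cl V F := by
  apply le_antisymm
  · exact NoFF.Basic.V_le fun f hf => cj_le_cl hf
  · exact cl_le fun f hf => NoFF.Basic.Z_le_V hf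

variable [Finite G] {S : Sylow 2 G} {Q : Subgroup G}

theorem jj_eq (hz : zc Q = Wd (S : Subgroup G)) :
    QWR.JJ (S : Subgroup G) (MZ (S : Subgroup G)) = nxt (S : Subgroup G) Q := by
  have h1 : nxtX (S : Subgroup G) (zc Q) = nxt (S : Subgroup G) Q := FrTop.nxtX_zc _ _
  rw [← h1, hz]
  rfl

theorem zz_eq (hl : Lev (S : Subgroup G) Q) (hz : zc Q = Wd (S : Subgroup G)) :
    QWR.ZZ (S : Subgroup G) (MZ (S : Subgroup G)) = ZK (S : Subgroup G) Q := by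
  rw [FrTop.zk_eq hl hz, ← jj_eq hz]
  rfl

theorem bb_eq (hl : Lev (S : Subgroup G) Q) (hz : zc Q = Wd (S : Subgroup G)) :
    QWR.BB (S : Subgroup G) (MZ (S : Subgroup G)) = BK (S : Subgroup G) Q := by
  unfold QWR.BB
  rw [zz_eq hl hz]
  rfl

/-- The hypotheses of `OffR` give the situation `WR`. -/
theorem wr_of (rq : RQ S (MZ (S : Subgroup G))) (wl : WL S Q) (hz : zc Q = Wd (S : Subgroup G))
    (hQ : Q = (S : Subgroup G) ⊓ centralizer (Wd (S : Subgroup G) : Set G)) {T F : Subgroup G} (hT : Syl T F)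
    (hB : BK (S : Subgroup G) Q ≤ T) (hTS : T ≤ (S : Subgroup G)) (hP : IsMinPar T F)
    (hch : F ⊓ centralizer (o2 F : Set G) ≤ o2 F) (hj : jj (S : Subgroup G) ≤ o2 F) (hn : ¬ Q ≤ o2 F)
    (hmv : ¬ oddGen F ≤ centralizer (ZK (S : Subgroup G) Q : Set G)) : WR S (MZ (S : Subgroup G)) T F where
  rq := rq
  TS := hTS
  QT := by
    have h1 : QWR.QQ (S : Subgroup G) (MZ (S : Subgroup G)) = Q := hQ.symm
    rw [h1]
    exact (wl.lb.KB.trans' (NO3S.Level.le_nxt wl.lev.le)).trans hB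
  syl := hT
  min := hP
  c2 := hch
  mvL := fun h1 => hmv (h1.trans (centralizer_le (by
    rw [← zz_eq wl.lev hz]
    exact ZZ_le _ _)))
  nQ := by
    have h1 : QWR.QQ (S : Subgroup G) (MZ (S : Subgroup G)) = Q := hQ.symm
    rw [h1]
    exact hn
  jY := hj

/-- **`OffR` from THEOREM QW**, `⟨V*^F⟩ ≤ O₂(M)` as a hypothesis under `Neg`; any `q`. -/
theorem offR_of (rq : RQ S (MZ (S : Subgroup G))) (wl : WL S Q) (hz : zc Q = Wd (S : Subgroup G))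
    (hQ : Q = (S : Subgroup G) ⊓ centralizer (Wd (S : Subgroup G) : Set G)) {M : Subgroup G}
    (hM : centralizer (ZK (S : Subgroup G) Q : Set G) ≤ M) (hP : MZ (S : Subgroup G) ≤ M)
    (hU : ∀ T F : Subgroup G, WR S (MZ (S : Subgroup G)) T F → F ≤ CZ (S : Subgroup G) →
      Neg T F (cl (Wd (S : Subgroup G)) F) → cl (Wd (S : Subgroup G)) F ≤ o2 M) :
    OffR S (Wd (S : Subgroup G)) Q := by
  intro T F hT hB hTS hPm hch hF hj hn hmv
  have h := wr_of rq wl hz hQ hT hB hTS hPm hch hj hn hmv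
  have hBT : QWR.BB (S : Subgroup G) (MZ (S : Subgroup G)) ≤ T := by
    rw [bb_eq wl.lev hz]
    exact hB
  have hD : centralizer (QWR.ZZ (S : Subgroup G) (MZ (S : Subgroup G)) : Set G) ≤ M := by
    rw [zz_eq wl.lev hz]
    exact hM
  obtain ⟨A, hA, hb, -, ho⟩ := exists_best_odd h hBT hD hP (by
    rw [zz_eq wl.lev hz]
    exact hmv) fun neg => hU T F h hF neg
  refine ⟨A, hA, ?_, ho⟩
  rw [cl_eq]
  exact hb

variable {ι : Type} [Finite ι] {X : Subgroup G} {L W Z C A : ι → Subgroup G}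

/-- **`OffR` at the top level `(Q, V*)`**, `|Z| ≥ 4`, `q = 2`. -/
theorem offR_top (R : RB S) (ml : MLK.{u, u}) (h4 : 4 ≤ Nat.card (zc (S : Subgroup G)))
    (rq : RQ S (MZ (S : Subgroup G))) (wl : WL S Q) (hz : zc Q = Wd (S : Subgroup G))
    (hQ : Q = (S : Subgroup G) ⊓ centralizer (Wd (S : Subgroup G) : Set G))
    (fr : FrL (BK (S : Subgroup G) Q) Q (Wd (S : Subgroup G)) X (ZK (S : Subgroup G) Q) L W Z C A 2)
    (hL : ∀ i, L i ≤ MZ (S : Subgroup G)) {M : Subgroup G} (hM : IsLoc (S : Subgroup G) M)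
    (hD : centralizer (ZK (S : Subgroup G) Q : Set G) ≤ M) (hP : MZ (S : Subgroup G) ≤ M) :
    OffR S (Wd (S : Subgroup G)) Q :=
  offR_of rq wl hz hQ hD hP fun T F h hF neg =>
    AlphaOf.hUM_of R ml h4 (by rw [bb_eq wl.lev hz]; exact fr) (LowZ.lowz R wl hz.ge fr hL) h hF hM hP neg

end Cfsg.Agent.Omega.NOThreeL.QWR.OffTop

end
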