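import Cfsg.Agent.Mrg.Omega.NO3S.CaseLW.LamQ.Main
import Cfsg.Agent.Mrg.Omega.NO3S.CaseLW.LamQ.Def
import Cfsg.Agent.Mrg.Omega.NO3S.CaseLW.LamQ.Sym
import Cfsg.Agent.Mrg.Omega.NO3S.CaseLW.LamEnd
import Cfsg.Agent.Mrg.Omega.NOThreeL.QWR.Sw.Base
import Cfsg.Agent.Mrg.Omega.OM.SWT.CaseLS
import Cfsg.Agent.Mrg.Omega.OM.SwapT.QuietL
import Cfsg.Agent.Mrg.Omega.NO3S.CaseLW.LamQ.Frm
import Cfsg.Agent.Mrg.Omega.OM.SwapV.Core
import Cfsg.Agent.Mrg.Omega.OM.Dich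

section


/-!
# THEOREM LAMBDA for `q ≥ 4` over a frame `FrL` alone (box R, level `(Q, V*)`)

Port of `CaseLW/LamQ/{Frm, End}.lean` (helper653, helper359) to a frame `FrL B Q V X Z_J L W Z C A q` without `P`:

* **`low_off`** : a minimal parabolic `Y ≤ C_G(c)` over `T ≥ B`, `c ∈ Z_J` of full support, with one best offender of `T`
  on an elementary abelian normal subgroup `U ≥ V` outside `O₂(Y)`, centralises `Ω₁Z(T)`.
-/

set_option autoImplicit false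
set_option linter.unusedSectionVars false

namespace Cfsg.Agent.Omega.NOThreeL.QWR.LowQ

open Subgroup Cfsg Cfsg.Agent.ZN.ChoiceBase Cfsg.Agent.ZN.ChoiceSit
open Cfsg.Agent.ZN (jj zj bau zc zl o2)
open Cfsg.Agent.MinSimple.MinParabolic (IsMinPar)
open Cfsg.Agent.Omega.OM.GLev
open Cfsg.Agent.Omega.OM.Lev.Uni (FrL)
open Cfsg.Agent.Omega.NO1.BestOff (Best)
open Cfsg.Agent.Omega.NO3S.OneLine (bo bo_fam elemM_mono)
open Cfsg.Agent.Omega.FFThm (NatKM SymKM OffM)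
open Cfsg.Agent.Omega.NO3S.CaseLW.LamQ (YX Su yx_nat yx_sym main)
open Cfsg.Agent.Omega.SQ1.Bau (elem_comm elem_sq)

universe u

variable {G : Type u} [Group G] [Finite G]

/-- **THEOREM LAMBDA, `q ≥ 4`**, over `FrL`, from one best offender, inside `C_G(c)`. -/
theorem low_off {ι : Type*} [Finite ι] {B Q V X ZJ : Subgroup G} {L W Z C A : ι → Subgroup G} {q : ℕ}
    {T Y U : Subgroup G} {c : G} (fr : FrL B Q V X ZJ L W Z C A q) (hq : 4 ≤ q) (hc : c ∈ ZJ) (hcf : ∀ i, c ∉ C i)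
    (hT : Syl T Y) (hB : B ≤ T) (hP : IsMinPar T Y) (hYc : Y ≤ centralizer ({c} : Set G))
    (hch : Y ⊓ centralizer (o2 Y : Set G) ≤ o2 Y) (hU : IsElementaryAbelian 2 U)
    (hUn : Y ≤ normalizer (U : Set G)) (hVU : V ≤ U) (hUT : U ≤ T) (hTQ : T ≤ normalizer (Q : Set G))
    (hcX : ∀ x ∈ U, (∀ y ∈ Q, y * x = x * y) → x ∈ V) (hzT : zc T ≤ ZJ)
    (hAB : ∀ A' : Subgroup G, A' ≤ T → Best U A' → A' ≤ B)
    (hoff : ∃ A' : Subgroup G, A' ≤ T ∧ Best U A' ∧ ¬ A' ≤ o2 Y) : Y ≤ centralizer (zc T : Set G) := by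
  by_contra hZ
  have hJU : ZJ ≤ U := fun x hx => hVU (fr.ZJV hx)
  have hzU : zl T Y ≤ U := ZN.zl_le (hzT.trans hJU) hUn
  have hQC := OM.BlkGen.inf_cent hT hP hZ
  obtain ⟨A₁, hA₁T, hb₁, hA₁O⟩ := hoff
  have hA₁ : A₁ ∈ bo T U := ⟨hA₁T, hb₁.toElemM, fun B h1 h2 => hb₁.max B h2 h1⟩
  have hoffM : OffM (zl T Y) A₁ :=
    { toElemM := elemM_mono hb₁.toElemM hzU le_rfl
      ne := fun h1 => hA₁O ((le_inf hA₁T h1).trans hQC)
      le := (bo_fam T U).off (elem_comm hU) hzU hA₁ }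
  obtain ⟨hno, hcon⟩ := FF.Glob.ffthmM G T Y hT hP hch ⟨A₁, hA₁T.trans hT.1, hoffM⟩
  have ge : GE T Y U (bo T U) :=
    { hm := SQ1.FFOne.minH_of hT hP hch
      fam := bo_fam T U
      elem := hU
      norm := hUn
      VX := hzU
      QC := hQC
      noOver := hno }
  have s : Su B Q V ZJ T Y U (bo T U) :=
    { ge := ge
      BT := hB
      VX := hVU
      AB := fun A' hA' => hAB A' hA'.1 { toElemM := hA'.2.1, max := fun B h1 h2 => hA'.2.2 B h2 h1 }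
      TQ := hTQ
      cX := hcX }
  have hex : ∃ A' ∈ bo T U, ¬ A' ≤ o2 Y := ⟨A₁, hA₁, hA₁O⟩
  obtain ⟨Λ, _, N', c', E, y⟩ : ∃ (Λ : Type) (_ : Finite Λ) (N' c' E : Λ → Subgroup G),
      YX T Y U (bo T U) N' c' E q := by
    rcases hcon with ⟨F, _, _, _, k', hk, ⟨N⟩⟩ | ⟨k', m, hk, hm, ⟨N⟩⟩
    · obtain ⟨N', c', E, y⟩ := yx_nat ge N hk hex q
      exact ⟨Fin k', inferInstance, N', c', E, y⟩
    · exact yx_sym ge hUT N hk (by omega) hex q
  exact hZ (main fr hq s y hc hcf (fun y hy => mem_centralizer_singleton_iff.1 (hYc hy)) hzT)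

end Cfsg.Agent.Omega.NOThreeL.QWR.LowQ

end

section


/-!
# THEOREM LAMBDA for `q ≥ 4` at the top level `(Q, V)`: the end

`Q = C_S(V)` weakly closed, `J(S) ≤ Q`, `Ω₁Z(Q) ≤ V`, blocks over `B`, `N_G(B) ≤ N_G(V)`.

* `TQ S B Q V ZJ L W Z C A q` : the inputs; `OffQ S B Q V ZJ` : the output of QWR (best offenders on `⟨V^Y⟩`), for
  `B ≤ T ≤ S`, `Y ≤ C_G(Z)`, `J(S) ≤ O₂(Y)`, `Q ≰ O₂(Y)`;
* `TQ.low_neg` : `J(S) ≰ O₂(Y)`; `TQ.low_S` : `T ≤ S`; **`TQ.low`** : `Y ≤ C_G(Z^g)`, `g ∈ N_G(B)`, `Q ≰ O₂(Y)` ⟹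
  `Y` centralises `Ω₁Z(T)`;
* **`TQ.bmh`** : `BMH K B M (C_G(Z^g))` for all `g ∈ N_G(B)`, if `N_G(Q) ≤ M`.
-/

set_option autoImplicit false
set_option linter.unusedSectionVars false

namespace Cfsg.Agent.Omega.NOThreeL.QWR.LowQEnd

open Subgroup Cfsg Cfsg.Agent.ZN.ChoiceBase Cfsg.Agent.ZN.ChoiceSit
open Cfsg.Agent.ZN (jj zj bau zc zl o2)
open Cfsg.Agent.MinSimple.MinParabolic (IsMinPar)
open Cfsg.Agent.MinSimple.VModule (oddGen oddGen_le)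
open Cfsg.Agent.Omega.OM.Lev.Uni (FrL)
open Cfsg.Agent.Omega.NO1.BestOff (Best)
open Cfsg.Agent.Omega.NO3S.Level (lev Lev lev_isLev)
open Cfsg.Agent.Omega.OM.Lev.Low (exists_ybj no_low)
open Cfsg.Agent.Omega.OM.SwapK (best_of_le)
open Cfsg.Agent.Omega.SQ1.Bau (elem_comm elem_sq)

universe u

variable {G : Type u} [Group G] [Finite G]

/-- The top level `(Q, V)`. -/
structure TQ {ι : Type} (S : Sylow 2 G) (B Q V ZJ : Subgroup G) (L W Z C A : ι → Subgroup G) (q : ℕ) : Prop where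
  fr : FrL B Q V V ZJ L W Z C A q
  BS : B ≤ (S : Subgroup G)
  wcB : OM.WeakCl.WC B
  wcQ : NO3b.Wc.WC (S : Subgroup G) Q
  jQ : jj (S : Subgroup G) ≤ Q
  cQ : (S : Subgroup G) ⊓ centralizer (V : Set G) ≤ Q
  NV : normalizer (B : Set G) ≤ normalizer (V : Set G)
  bestB : ∀ A ≤ (S : Subgroup G), Best V A → A ≤ B

/-- **QWR, its output** (for the `Y ≰ M`). -/
def OffQ (S : Sylow 2 G) (B Q V ZJ M : Subgroup G) : Prop :=
  ∀ T Y : Subgroup G, Syl T Y → B ≤ T → T ≤ (S : Subgroup G) → IsMinPar T Y →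
    Y ⊓ centralizer (o2 Y : Set G) ≤ o2 Y → Y ≤ centralizer (zc (S : Subgroup G) : Set G) →
      jj (S : Subgroup G) ≤ o2 Y → ¬ Q ≤ o2 Y → ¬ oddGen Y ≤ centralizer (ZJ : Set G) →
        ¬ Y ≤ centralizer (zc T : Set G) → ¬ Y ≤ M → ∃ A, A ≤ T ∧ Best (NoFF.Basic.V V Y) A ∧ ¬ A ≤ o2 Y

omit [Finite G] in
theorem norm_of_wcB {B T : Subgroup G} (h : OM.WeakCl.WC B) (hT : IsPGroup 2 T) (hB : B ≤ T) :
    T ≤ normalizer (B : Set G) := fun t ht =>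
  mem_normalizer_iff_cj.2 (h T hT hB t ((cj_mono t hB).trans (cj_eq_of_mem_normalizer (le_normalizer ht)).le))

namespace TQ

variable {ι : Type} [Finite ι] {S : Sylow 2 G} {B Q V ZJ T Y M K : Subgroup G} {L W Z C A : ι → Subgroup G} {q : ℕ}

theorem Bp (h : TQ S B Q V ZJ L W Z C A q) : IsPGroup 2 B := S.isPGroup'.to_le h.BS

theorem VS (h : TQ S B Q V ZJ L W Z C A q) : V ≤ (S : Subgroup G) := (h.fr.VQ.trans h.fr.QB).trans h.BS

theorem NQ (h : TQ S B Q V ZJ L W Z C A q) : normalizer (B : Set G) ≤ normalizer (Q : Set G) := fun _ hg =>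
  mem_normalizer_iff_cj.2 (OM.LevD.norm_of_wc h.wcQ h.Bp h.fr.QB hg)

theorem SN (h : TQ S B Q V ZJ L W Z C A q) : (S : Subgroup G) ≤ normalizer (B : Set G) :=
  norm_of_wcB h.wcB S.isPGroup' h.BS

/-- elements of `S` centralising `Q` -/
theorem mem_V (h : TQ S B Q V ZJ L W Z C A q) {x : G} (hx : x ∈ (S : Subgroup G)) (h2 : x ^ 2 = 1)
    (hc : ∀ y ∈ Q, y * x = x * y) : x ∈ V := by
  have h1 : x ∈ Q := h.cQ ⟨hx, mem_centralizer_iff.2 fun v hv => hc v (h.fr.VQ hv)⟩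
  exact h.fr.zcQ x h1 h2 fun y hy => (hc y hy).symm

/-- `Ω₁Z(T) ≤ Z_J`, `B ≤ T ≤ S` -/
theorem zcT (h : TQ S B Q V ZJ L W Z C A q) (hB : B ≤ T) (hTS : T ≤ (S : Subgroup G)) : zc T ≤ ZJ := by
  intro z hz
  obtain ⟨h1, h2, h3⟩ := mem_zc.1 hz
  exact (h.fr.mem_ZJ z).2 ⟨h.mem_V (hTS h1) h2 fun y hy => h3 y (hB (h.fr.QB hy)), fun b hb => h3 b (hB hb)⟩

/-- `V ≤ Ω₁Z(J(S))` -/
theorem V_le_zc (h : TQ S B Q V ZJ L W Z C A q) : V ≤ zc (lev (S : Subgroup G) 0) := fun v hv =>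
  (lev_isLev (S : Subgroup G) 0).mem_of_comm (h.VS hv) (elem_sq h.fr.elX v hv) fun y hy => h.fr.cQ (h.jQ hy) hv

theorem qv (h : TQ S B Q V ZJ L W Z C A q) (hT : IsPGroup 2 T) (hB : B ≤ T) :
    OM.Lev.Low.YB.QV T (zc (lev (S : Subgroup G) 0)) Q V where
  QT := h.fr.QB.trans hB
  TQ := (norm_of_wcB h.wcB hT hB).trans h.NQ
  mem := by
    intro x
    constructor
    · exact fun hx => ⟨h.V_le_zc hx, fun q hq => h.fr.cQ hq hx⟩
    · rintro ⟨hx, hxQ⟩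
      exact h.mem_V ((lev_isLev (S : Subgroup G) 0).le (mem_zc.1 hx).1) (mem_zc.1 hx).2.1 hxQ
  two := hT

/-- **Stage `J(S)`.** -/
theorem low_neg (h : TQ S B Q V ZJ L W Z C A q) (hq : 2 < q) (hT : Syl T Y) (hB : B ≤ T)
    (hTS : T ≤ (S : Subgroup G)) (hP : IsMinPar T Y) (hc : Y ⊓ centralizer (o2 Y : Set G) ≤ o2 Y)
    (hn : ¬ jj (S : Subgroup G) ≤ o2 Y) : Y ≤ centralizer (zc T : Set G) := by
  by_contra hZ
  have hB0 : OM.LevB.BL (S : Subgroup G) 0 ≤ T := by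
    rintro x ⟨hx, hxc⟩
    refine hB (h.fr.QB (h.cQ ⟨hx, centralizer_le ?_ hxc⟩))
    exact_mod_cast h.V_le_zc
  obtain ⟨Λ, _, N, c, hy, l, hl⟩ := exists_ybj S hT hB0 hP hc (j := 0) (fun i hi => absurd hi (Nat.not_lt_zero i)) hn hZ
  have h1 := no_low h.fr hq hy (h.qv hT.2.1 hB) hB l
  exact hl ((h.zcT hB hTS).trans h1)

/-- an element of full support in `Ω₁Z(S)` -/
theorem exists_full (h : TQ S B Q V ZJ L W Z C A q) :
    ∃ c ∈ ZJ, (∀ i, c ∉ C i) ∧ c ∈ zc (S : Subgroup G) := by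
  obtain ⟨c, hc, hcf, hcS⟩ := NO3S.CaseLW.LamQ.exists_full_fix h.fr (R := (S : Subgroup G)) S.isPGroup' fun s hs i => by
    obtain ⟨j, hj, -⟩ := (h.fr.norm_of (h.SN hs) (h.NV (h.SN hs))).2 i
    exact ⟨j, hj⟩
  have hcV := h.fr.ZJV hc
  exact ⟨c, hc, hcf, mem_zc.2 ⟨h.VS hcV, elem_sq h.fr.elX c hcV, fun s hs => hcS s hs⟩⟩

/-- **LAMBDA, `T ≤ S`, `Y ≤ C_G(Z)`.** -/
theorem low_S (h : TQ S B Q V ZJ L W Z C A q) (hq : 4 ≤ q) (ho : OffQ S B Q V ZJ M) (hT : Syl T Y) (hB : B ≤ T)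
    (hTS : T ≤ (S : Subgroup G)) (hP : IsMinPar T Y) (hch : Y ⊓ centralizer (o2 Y : Set G) ≤ o2 Y)
    (hY : Y ≤ centralizer (zc (S : Subgroup G) : Set G)) (hn : ¬ Q ≤ o2 Y) (hYM : ¬ Y ≤ M) :
    Y ≤ centralizer (zc T : Set G) := by
  by_cases hJ : jj (S : Subgroup G) ≤ o2 Y
  swap
  · exact h.low_neg (by omega) hT hB hTS hP hch hJ
  by_contra hZ
  have hzT := h.zcT hB hTS
  have hmv : ¬ oddGen Y ≤ centralizer (ZJ : Set G) := by
    intro hcon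
    apply hZ
    rw [← OM.Dich.oddGen_sup_syl hT]
    exact sup_le (hcon.trans (centralizer_le (by exact_mod_cast hzT))) (NO3S.Level.le_centralizer_zc T)
  obtain ⟨A', hAT, hA, hAO⟩ := ho T Y hT hB hTS hP hch hY hJ hn hmv hZ hYM
  obtain ⟨c, hc, hcf, hcS⟩ := h.exists_full
  -- `U = ⟨V^Y⟩ ≤ Ω₁Z(J(S))`
  have hYJ : Y ≤ normalizer (zc (lev (S : Subgroup G) 0) : Set G) :=
    (le_normalizer_o2 Y).trans ((OM.LevD.LB.lev S 0).nrm _ (isPGroup_o2 Y) hJ)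
  have hUz : NoFF.Basic.V V Y ≤ zc (lev (S : Subgroup G) 0) := NoFF.Basic.V_le fun f hf => by
    have h1 := cj_mono f h.V_le_zc
    rwa [cj_eq_of_mem_normalizer (hYJ hf)] at h1
  have hVU : V ≤ NoFF.Basic.V V Y := by
    have h1 := NoFF.Basic.Z_le_V (Z := V) (one_mem Y)
    rwa [map_one, one_smul] at h1
  have hel : IsElementaryAbelian 2 (NoFF.Basic.V V Y) :=
    ⟨⟨⟨fun a b => Subtype.ext (Lev.zc_comm (hUz a.2) (hUz b.2))⟩⟩, fun a ha => (mem_zc.1 (hUz ha)).2.1⟩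
  have hUT : NoFF.Basic.V V Y ≤ T := hUz.trans ((zc_le _).trans (h.jQ.trans (h.fr.QB.trans hB)))
  refine hZ (LowQ.low_off h.fr hq hc hcf hT hB hP (hY.trans (centralizer_le (Set.singleton_subset_iff.2 hcS))) hch hel
    OmThm.XD.X_le_normalizer_W hVU hUT ((norm_of_wcB h.wcB hT.2.1 hB).trans h.NQ) (fun x hx hxQ => ?_) hzT
    (fun E hE hb => h.bestB E (hE.trans hTS) (best_of_le (elem_comm hel) hb hVU)) ⟨A', hAT, hA, hAO⟩)
  exact h.mem_V (hTS (hUT hx)) (elem_sq hel x hx) hxQ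

/-- **LAMBDA inside `C_G(Z^g)`.** -/
theorem low (h : TQ S B Q V ZJ L W Z C A q) (hq : 4 ≤ q) (ho : OffQ S B Q V ZJ M) {g : G}
    (hg : g ∈ normalizer (B : Set G)) (hNM : normalizer (B : Set G) ≤ M) (hT : Syl T Y) (hB : B ≤ T) (hP : IsMinPar T Y)
    (hch : Y ⊓ centralizer (o2 Y : Set G) ≤ o2 Y)
    (hY : Y ≤ centralizer (cj g (zc (S : Subgroup G)) : Set G)) (hn : ¬ Q ≤ o2 Y) (hYM : ¬ Y ≤ M) :
    Y ≤ centralizer (zc T : Set G) := by
  set H : Subgroup G := normalizer (B : Set G) ⊓ centralizer (cj g (zc (S : Subgroup G)) : Set G) with hH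
  have hgS : Syl (cj g (S : Subgroup G)) H := by
    refine ⟨le_inf ?_ ?_, isPGroup_cj g S.isPGroup', fun R _ hR hle => ?_⟩
    · have h1 := cj_mono g h.SN
      rwa [cj_eq_of_mem_normalizer (le_normalizer hg)] at h1
    · have h1 := cj_mono g (NO3S.Level.le_centralizer_zc (S : Subgroup G))
      rwa [cj_centralizer] at h1
    · have h1 : (S : Subgroup G) ≤ cj g⁻¹ R := by
        have := cj_mono g⁻¹ hle
        rwa [cj_inv_cj] at this
      have h2 := S.is_maximal' (isPGroup_cj g⁻¹ hR) h1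
      have h3 := congrArg (cj g) h2
      rwa [cj_cj_inv] at h3
  have hTH : T ≤ H := le_inf (norm_of_wcB h.wcB hT.2.1 hB) (hT.1.trans hY)
  obtain ⟨T', hT', hTT'⟩ := exists_syl hT.2.1 hTH
  obtain ⟨x, hx, rfl⟩ := syl_conj hgS hT'
  have hn' : x * g ∈ normalizer (B : Set G) := mul_mem hx.1 hg
  have hni : (x * g)⁻¹ ∈ normalizer (B : Set G) := inv_mem hn'
  have hzz : cj (x * g) (zc (S : Subgroup G)) = cj g (zc (S : Subgroup G)) := by
    rw [← cj_cj]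
    ext y
    constructor
    · intro hy
      rw [mem_cj] at hy
      have h1 := mem_centralizer_iff.1 hx.2 _ hy
      have e : x⁻¹ * y * x = y := by
        have h2 : (x⁻¹ * y * x) * x = x * (x⁻¹ * y * x) := h1
        have h3 : (x⁻¹ * y * x) * x = y * x := by rw [h2]; group
        exact mul_right_cancel h3
      rwa [e] at hy
    · intro hy
      have h1 := mem_centralizer_iff.1 hx.2 _ hy
      rw [mem_cj]
      have e : x⁻¹ * y * x = y := by rw [mul_assoc, h1]; group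
      rwa [e]
  rw [cj_cj] at hTT'
  set n := x * g with hndef
  have hQn : cj n⁻¹ Q = Q := mem_normalizer_iff_cj.1 (h.NQ hni)
  have hBn : cj n⁻¹ B = B := mem_normalizer_iff_cj.1 hni
  have ho2 : o2 (cj n⁻¹ Y) = cj n⁻¹ (o2 Y) := o2_cj _ _
  have key := h.low_S hq ho (T := cj n⁻¹ T) (Y := cj n⁻¹ Y) (NO1.JMin.syl_cj hT n⁻¹)
    (by
      have := cj_mono n⁻¹ hB
      rwa [hBn] at this)
    (by
      have := cj_mono n⁻¹ hTT'
      rwa [cj_inv_cj] at this)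
    (OM.SwapT.QuietL.isMinPar_cj n⁻¹ hP)
    (by
      rw [ho2]
      have := cj_mono n⁻¹ hch
      rwa [cj_inf, cj_centralizer] at this)
    (by
      rw [← hzz] at hY
      have := cj_mono n⁻¹ hY
      rwa [cj_centralizer, cj_inv_cj] at this)
    (by
      intro hcon
      apply hn
      rw [ho2] at hcon
      have := cj_mono n hcon
      rw [cj_cj_inv] at this
      refine le_trans (le_of_eq ?_) this
      rw [← hQn, cj_cj_inv, hQn])
    (by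
      intro hcon
      apply hYM
      have := cj_mono n hcon
      rw [cj_cj_inv] at this
      exact this.trans (cj_eq_of_mem_normalizer (le_normalizer (hNM hn'))).le)
  have h1 := cj_mono n key
  rwa [cj_cj_inv, cj_centralizer, ← NO3S.Level.zc_cj, cj_cj_inv] at h1

/-- **`BMH` inside `C_G(Z^g)`**, from the minimal parabolics with `Q ≤ O₂(Y)`. -/
theorem bmh_of (h : TQ S B Q V ZJ L W Z C A q) (hq : 4 ≤ q) (hNM : normalizer (B : Set G) ≤ M)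
    (ho : OffQ S B Q V ZJ M)
    (hQ : ∀ T Y : Subgroup G, Syl T Y → B ≤ T → IsMinPar T Y → Y ⊓ centralizer (o2 Y : Set G) ≤ o2 Y → Q ≤ o2 Y →
      ¬ K ≤ o2 Y → ¬ Y ≤ centralizer (zc T : Set G) → Y ≤ M) :
    ∀ g ∈ normalizer (B : Set G), OM.SwapV.BMH K B M (centralizer (cj g (zc (S : Subgroup G)) : Set G)) := by
  intro g hg T Y hT hB hP hY hch hK hZ
  by_cases hn : Q ≤ o2 Y
  · exact hQ T Y hT hB hP hch hn hK hZ
  · by_contra hYM
    exact hZ (h.low hq ho hg hNM hT hB hP hch hY hn hYM)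

/-- **`BMH` inside `C_G(Z^g)`**, `N_G(Q) ≤ M`. -/
theorem bmh (h : TQ S B Q V ZJ L W Z C A q) (hq : 4 ≤ q) (hM : normalizer (Q : Set G) ≤ M)
    (ho : OffQ S B Q V ZJ M) :
    ∀ g ∈ normalizer (B : Set G), OM.SwapV.BMH K B M (centralizer (cj g (zc (S : Subgroup G)) : Set G)) :=
  h.bmh_of hq (h.NQ.trans hM) ho fun _ Y _ _ _ _ hn _ _ =>
    ((le_normalizer_o2 Y).trans fun _ hy => mem_normalizer_iff_cj.2 (OM.LevD.norm_of_wc h.wcQ (isPGroup_o2 Y) hn hy)).trans hM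

end TQ

/-! ### Over 587's level `LtV` -/

section ltv

open Cfsg.Agent.Omega.OM.SwapK (BK ZK)
open Cfsg.Agent.Omega.NO3S.Level (nxt)

variable {ι : Type} [Finite ι] {S : Sylow 2 G} {Q V M : Subgroup G} {L W Z C A : ι → Subgroup G} {q : ℕ}

/-- The inputs from `LtV S V Q`. -/
theorem TQ.of_ltv (h : Sw.LtV S V Q)
    (fr : FrL (BK (S : Subgroup G) Q) Q V V (ZK (S : Subgroup G) Q) L W Z C A q) :
    TQ S (BK (S : Subgroup G) Q) Q V (ZK (S : Subgroup G) Q) L W Z C A q where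
  fr := fr
  BS := h.wl.lb.BS
  wcB := h.wl.wcB
  wcQ := h.wl.wc
  jQ := h.wl.lev.jjle
  cQ := by
    rintro x ⟨hx, hxc⟩
    have hxB : x ∈ BK (S : Subgroup G) Q := ⟨hx, centralizer_le (by exact_mod_cast fr.ZJV) hxc⟩
    exact (fr.mem_Q x hxB).2 fun v hv => (mem_centralizer_iff.1 hxc v hv).symm
  NV := by
    rw [← h.zcQ]
    exact h.wl.norm_B.trans (NO3S.Level.normalizer_le_zc _)
  bestB := by
    intro E hE hb
    rw [← h.zcQ] at hb
    exact (h.wl.le_nxt_of_best S.isPGroup' (NO3S.Level.nxt_le _ _) hE hb).trans h.wl.lb.KB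

/-- QWR for `B ≤ T ≤ S`. -/
theorem offQ_of (ho : Sw.OffR S V Q) : OffQ S (BK (S : Subgroup G) Q) Q V (ZK (S : Subgroup G) Q) M :=
  fun T Y hT hB hTS hP hch hY hJ hn hmv _ _ => by
    obtain ⟨A, h1, h2⟩ := ho T Y hT hB hTS hP hch hY hJ hn hmv
    exact ⟨A, h1, h2⟩

/-- **`BMH` inside `C_G(Z^g)` at the level `(Q, V)`, `q ≥ 4`.** -/
theorem bmh_ltv (h : Sw.LtV S V Q)
    (fr : FrL (BK (S : Subgroup G) Q) Q V V (ZK (S : Subgroup G) Q) L W Z C A q) (hq : 4 ≤ q)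
    (ho : Sw.OffR S V Q) (hM : normalizer (Q : Set G) ≤ M) :
    ∀ g ∈ normalizer (BK (S : Subgroup G) Q : Set G), OM.SwapV.BMH (nxt (S : Subgroup G) Q) (BK (S : Subgroup G) Q) M
      (centralizer (cj g (zc (S : Subgroup G)) : Set G)) :=
  (TQ.of_ltv h fr).bmh hq hM (offQ_of ho)

/-- **`BMH` inside `C_G(Z^g)` at the level `(Q, V)`, `q ≥ 4`**: `M` contains `N_G(B)` and the FF-blocks over `B` which
normalise `Q`; QWR is needed for the `F ≰ M` only. -/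
theorem bmh_ltvF (h : Sw.LtV S V Q)
    (fr : FrL (BK (S : Subgroup G) Q) Q V V (ZK (S : Subgroup G) Q) L W Z C A q) (hq : 4 ≤ q)
    (ho : OffQ S (BK (S : Subgroup G) Q) Q V (ZK (S : Subgroup G) Q) M)
    (hN : normalizer (BK (S : Subgroup G) Q : Set G) ≤ M)
    (hF : ∀ L' V' : Subgroup G, OM.LevB.FBlk (BK (S : Subgroup G) Q) L' V' → L' ≤ normalizer (Q : Set G) → L' ≤ M) :
    ∀ g ∈ normalizer (BK (S : Subgroup G) Q : Set G), OM.SwapV.BMH (nxt (S : Subgroup G) Q) (BK (S : Subgroup G) Q) M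
      (centralizer (cj g (zc (S : Subgroup G)) : Set G)) :=
  (TQ.of_ltv h fr).bmh_of hq hN ho fun T Y hT hB hP hch hn hK' hZ => by
    obtain ⟨L', V', hL, hb, hle⟩ := h.wl.exists_fblk hT hB hP hch hn hK' hZ
    have hYQ : Y ≤ normalizer (Q : Set G) := (le_normalizer_o2 Y).trans fun _ hy =>
      mem_normalizer_iff_cj.2 (OM.LevD.norm_of_wc h.wl.wc (isPGroup_o2 Y) hn hy)
    exact hle.trans (sup_le ((norm_of_wcB h.wl.wcB hT.2.1 hB).trans hN) (hF L' V' hb (hL.trans hYQ)))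

/-- **`BMH` inside `C_G(Z^g)` at the level `(Q, V)`, `q ≥ 4`, the (K)-form**: `M` contains `C_G(Z_J)` and all
FF-blocks over `B` (`K0 ≤ M`) and `N_G(B)`; QWR is needed for the `F ≰ M` only. -/
theorem bmh_ltvK (h : Sw.LtV S V Q)
    (fr : FrL (BK (S : Subgroup G) Q) Q V V (ZK (S : Subgroup G) Q) L W Z C A q) (hq : 4 ≤ q)
    (ho : OffQ S (BK (S : Subgroup G) Q) Q V (ZK (S : Subgroup G) Q) M)
    (hN : normalizer (BK (S : Subgroup G) Q : Set G) ≤ M)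
    (hK : OM.LevD.K0 (ZK (S : Subgroup G) Q) (OM.LevB.FBlk (BK (S : Subgroup G) Q)) ≤ M) :
    ∀ g ∈ normalizer (BK (S : Subgroup G) Q : Set G), OM.SwapV.BMH (nxt (S : Subgroup G) Q) (BK (S : Subgroup G) Q) M
      (centralizer (cj g (zc (S : Subgroup G)) : Set G)) :=
  (TQ.of_ltv h fr).bmh_of hq hN ho fun _ _ hT hB hP hch hn hK' hZ =>
    (h.wl.blkGen hT hB hP hch hn hK' hZ).trans
      (sup_le hK ((norm_of_wcB h.wl.wcB hT.2.1 hB).trans hN))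

end ltv

end Cfsg.Agent.Omega.NOThreeL.QWR.LowQEnd

end
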