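import Cfsg.Agent.Mrg.Omega.NOThreeL.QWR.Sw.Base
import Cfsg.Agent.Mrg.Omega.NOThreeL.QWR.LowQ
import Cfsg.Agent.Mrg.Omega.OM.SwapV.Q.Main
import Cfsg.Agent.Mrg.Omega.NOThreeL.RRed.QFr.Top


/-!
# NO-3L, box R, one class, top level `(Q, V*)`, `q ≥ 4`: the local case

* `NQ S Q M`; `nQ_of_norm`, `nQ_of_blk` : its two sources;
* **`cz_le`** : THEOREM SW at `(Q, V)` : `C_G(Z_J), L i, N_G(B) ≤ M` and all minimal parabolics over `T ≥ B` with `Q ≤ O₂(Y)`,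
  which move `Ω₁Z(T)`, in `M` : `C_G(Z) ≤ M`;
* `ltV_top` : `LtV S V* Q` from 461's `TopH`, `TopQ`;
* **`false_top`** : no local group `M ≥ C_G(Z_J), MZ S, N_G(B)` with these properties exists.
-/

set_option autoImplicit false
set_option linter.unusedSectionVars false

namespace Cfsg.Agent.Omega.NOThreeL.QWR.GlueQ

open Subgroup Cfsg Cfsg.Agent.ZN.ChoiceBase Cfsg.Agent.ZN.ChoiceSit Cfsg.Agent.Omega.MinPar Cfsg.Agent.Omega.Frame
open Cfsg.Agent.ZN (jj zj bau zc zl o2)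
open Cfsg.Agent.MinSimple.MinParabolic (IsMinPar)
open Cfsg.Agent.MinSimple.VModule (oddGen oddGen_le)
open Cfsg.Agent.Omega.NO3S.Level (lev Lev nxt)
open Cfsg.Agent.Omega.OM.SwapK (WL BK ZK)
open Cfsg.Agent.Omega.OM.SwapV.Q (Cor Gr)
open Cfsg.Agent.Omega.OM.Lev.Uni (FrL)
open Cfsg.Agent.Omega.NOThreeL.RTree (RB)
open Cfsg.Agent.Omega.NOThreeL.Merge (MZ)
open Cfsg.Agent.Omega.NOThreeL.RRed (Wd)
open Cfsg.Agent.Omega.NOThreeL.QWR.Sw (LtV OffR AbQ)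
open Cfsg.Agent.Omega.NOThreeL.QWR.LowQEnd (TQ offQ_of)
open Cfsg.Agent.Omega.NOThreeL.RRed.QFr.Top (Qv TopH TopQ)

universe u

variable {G : Type u} [Group G] [Finite G]

/-- The minimal parabolics over `T ≥ B` with `Q ≤ O₂(Y)`, `nxt S Q ≰ O₂(Y)`, which move `Ω₁Z(T)`, lie in `M`. -/
def NQ (S : Sylow 2 G) (Q M : Subgroup G) : Prop :=
  ∀ T Y : Subgroup G, Syl T Y → BK (S : Subgroup G) Q ≤ T → IsMinPar T Y → Y ⊓ centralizer (o2 Y : Set G) ≤ o2 Y →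
    Q ≤ o2 Y → ¬ nxt (S : Subgroup G) Q ≤ o2 Y → ¬ Y ≤ centralizer (zc T : Set G) → Y ≤ M

section nq

variable {S : Sylow 2 G} {Q M : Subgroup G}

/-- `NQ` from `N_G(Q) ≤ M` -/
theorem nQ_of_norm (wl : WL S Q) (hM : normalizer (Q : Set G) ≤ M) : NQ S Q M :=
  fun _ Y _ _ _ _ hn _ _ => ((le_normalizer_o2 Y).trans fun _ hy => mem_normalizer_iff_cj.2
    (OM.LevD.norm_of_wc wl.wc (isPGroup_o2 Y) hn hy)).trans hM

/-- `NQ` from the FF-blocks over `B` which normalise `Q` -/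
theorem nQ_of_blk (wl : WL S Q) (hN : normalizer (BK (S : Subgroup G) Q : Set G) ≤ M)
    (hF : ∀ L' V' : Subgroup G, OM.LevB.FBlk (BK (S : Subgroup G) Q) L' V' → L' ≤ normalizer (Q : Set G) → L' ≤ M) :
    NQ S Q M := fun T Y hT hB hP hch hn hK' hZ => by
  obtain ⟨L', V', hL, hb, hle⟩ := wl.exists_fblk hT hB hP hch hn hK' hZ
  have hYQ : Y ≤ normalizer (Q : Set G) := (le_normalizer_o2 Y).trans fun _ hy =>
    mem_normalizer_iff_cj.2 (OM.LevD.norm_of_wc wl.wc (isPGroup_o2 Y) hn hy)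
  exact hle.trans (sup_le ((LowQEnd.norm_of_wcB wl.wcB hT.2.1 hB).trans hN) (hF L' V' hb (hL.trans hYQ)))

end nq

section sw

variable {ι : Type} [Finite ι] {S : Sylow 2 G} {V Q M : Subgroup G} {L W Z C A : ι → Subgroup G} {q : ℕ}

/-- **THEOREM SW at the top level, `q ≥ 4`.** -/
theorem cz_le [Nonempty ι] (h : LtV S V Q)
    (fr : FrL (BK (S : Subgroup G) Q) Q V V (ZK (S : Subgroup G) Q) L W Z C A q) (hq : 4 ≤ q) (ho : OffR S V Q)
    (perm : ∀ s ∈ (S : Subgroup G), ∀ i j, cj s (Z i) = Z j → cj s (W i) = W j ∧ cj s (C i) = C j)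
    (co : ∀ i, ∃ (F : Type) (_ : Field F) (_ : Finite F) (_ : CharP F 2), Nat.card F = q ∧
      ∃ e : G → F × F, Cor F (S : Subgroup G) (BK (S : Subgroup G) Q) L W Z i e)
    (hL : ∀ i, L i ≤ M) (hD : centralizer (ZK (S : Subgroup G) Q : Set G) ≤ M)
    (hN : normalizer (BK (S : Subgroup G) Q : Set G) ≤ M) (nQ : NQ S Q M) :
    centralizer (zc (S : Subgroup G) : Set G) ≤ M := by
  have hS1 : (S : Subgroup G) ≠ ⊥ := by
    intro e
    apply Sw.LtV.V_ne fr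
    rw [eq_bot_iff, ← e]
    exact h.VB.trans h.lb.BS
  refine (h.abQ fr ho perm co).gr.cz_leC (fun _ => hq) (fun _ _ h => h) hS1 fr.zcB.le ?_ hL hD hN
  have h1 := (TQ.of_ltv h fr).bmh_of (M := M) (K := nxt (S : Subgroup G) Q) hq hN (offQ_of ho) nQ 1 (one_mem _)
  rwa [cj_one] at h1

end sw

section top

variable {ι : Type} [Finite ι] {S : Sylow 2 G} {M : Subgroup G} {L W Z C A : ι → Subgroup G} {q : ℕ}

/-- `Q` is a level -/
theorem wl_of (h : TopH S) (hj : jj (S : Subgroup G) ≤ Qv S) : WL S (Qv S) where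
  wc := h.wc
  lev := ⟨inf_le_left, hj, fun _ h1 h2 _ hg => mem_normalizer_iff_cj.2
    (OM.LevD.norm_of_wc h.wc (S.isPGroup'.to_le h2) h1 hg)⟩

/-- **`LtV S V* Q`.** -/
theorem ltV_top (B : RB S) (h : TopH S) (hj : jj (S : Subgroup G) ≤ Qv S) (t : TopQ S L W Z C A q) :
    LtV S (Wd (S : Subgroup G)) (Qv S) where
  wl := wl_of h hj
  zcQ := h.zc
  char2 := B.ctx.char2
  low := t.low
  noff := t.noff

/-- **The local case at the top level, `q ≥ 4`, is impossible.** -/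
theorem false_top [Nonempty ι] (B : RB S) (h : TopH S) (hj : jj (S : Subgroup G) ≤ Qv S) (t : TopQ S L W Z C A q)
    (hq : 4 ≤ q) (ho : OffR S (Wd (S : Subgroup G)) (Qv S)) (hl : IsLoc (S : Subgroup G) M)
    (hD : centralizer (ZK (S : Subgroup G) (Qv S) : Set G) ≤ M) (hY : MZ (S : Subgroup G) ≤ M)
    (hN : normalizer (BK (S : Subgroup G) (Qv S) : Set G) ≤ M) (nQ : NQ S (Qv S) M) : False := by
  have h1 := cz_le (ltV_top B h hj t) t.fr hq ho t.perm t.co (fun i => (t.LM i).trans hY) hD hN nQ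
  exact hl.o2_ne (Merge.nonLoc_MZ B.ctx B.full (o2 M) (isPGroup_o2 M) (hY.trans (le_normalizer_o2 M))
    (h1.trans (le_normalizer_o2 M)))

end top

end Cfsg.Agent.Omega.NOThreeL.QWR.GlueQ
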