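import Cfsg.Agent.Mrg.Omega.NO3S.CaseLW.Lam
import Cfsg.Agent.Mrg.Omega.OM.SwapK.OffW
import Cfsg.Agent.Mrg.Omega.OM.SwapT.TI
import Cfsg.Agent.Mrg.Omega.OM.SwapT.LowF


/-!
# NO-3L, box R: THEOREM LAMBDA over `(Q, V*)` (helper417 #24622; #27099 (II), #27386)

`WL S Q` : `Q` is a weakly closed level; `V ≤ Ω₁Z(Q)`, `FrL (BT S Q) Q V X₀ (ZT S Q) L W Z C A 2`, `Ω₁Z(Q) ≤ V`.

* `qv` : `QV T X Q (V ∩ X)` for `X ≤ Q`; `zc_T_le`; `BL_le`;
* `low_lev` : minimal parabolics `Y ≤ C_G(c)` over `T ≥ B` with `lev S n ≰ O₂(Y)`, `lev S n ≤ Q`, centralise `Ω₁Z(T)`;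
* **`low_off`** : minimal parabolics `Y ≤ C_G(c)` over `T ≥ B` with `J(S) ≤ O₂(Y)` and a best offender of `T` on `⟨V^Y⟩`
  outside `O₂(Y)` centralise `Ω₁Z(T)`;
* `fam_of_off`, `fix_of_off` : the family, and fixed points do not lift;
* (the sockets for `SwapV.CrA` are in `LowM.lean`)
-/

set_option autoImplicit false
set_option linter.unusedSectionVars false

namespace Cfsg.Agent.Omega.NOThreeL.QWR.LowT

open Subgroup Cfsg Cfsg.Agent.ZN.ChoiceBase Cfsg.Agent.ZN.ChoiceSit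
open Cfsg.Agent.ZN (jj zj bau zc zl o2)
open Cfsg.Agent.MinSimple.MinParabolic (IsMinPar)
open Cfsg.Agent.MinSimple.VModule (oddGen oddGen_le)
open Cfsg.Agent.Omega.OM
open Cfsg.Agent.Omega.OM.GLev
open Cfsg.Agent.Omega.OM.Lev.Low
open Cfsg.Agent.Omega.OM.Lev.Uni (FrL)
open Cfsg.Agent.Omega.OM.Swap.Fam (Fm BF fm_best)
open Cfsg.Agent.Omega.NO1.BestOff (Best)
open Cfsg.Agent.Omega.NO3S.Level
open Cfsg.Agent.Omega.NO3S.OneLine (bo bo_fam elemM_mono)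
open Cfsg.Agent.Omega.FFThm (OffM)
open Cfsg.Agent.Omega.FrameNOFF (CZ)
open Cfsg.Agent.Omega.OM.SwapK (WL best_of_le norm_lim_of)
open Cfsg.Agent.Omega.OM.SwapT (ZT BT LowT)
open Cfsg.Agent.Omega.NO3S.CaseLW.Lam (YD core)
open Cfsg.Agent.Omega.SQ1.Bau (elem_comm elem_sq)

universe u

variable {G : Type u} [Group G] [Finite G] {S : Sylow 2 G} {Q V : Subgroup G} {ι : Type}
  {X₀ : Subgroup G} {L W Z C A : ι → Subgroup G} {q : ℕ} {T Y : Subgroup G}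

/-- `⟨V^Y⟩` -/
abbrev UY (V Y : Subgroup G) : Subgroup G := NoFF.Basic.V V Y

theorem V_le_UY : V ≤ UY V Y := by
  have h1 := NoFF.Basic.Z_le_V (Z := V) (one_mem Y)
  rwa [map_one, one_smul] at h1

theorem norm_UY : Y ≤ normalizer (UY V Y : Set G) := OmThm.XD.X_le_normalizer_W

section two

variable (h : WL S Q)
include h

theorem T_norm (hT : IsPGroup 2 T) (hB : BT (S : Subgroup G) Q ≤ T) : T ≤ normalizer (Q : Set G) :=
  ((SwapT.lb h.wc).two_le hT hB).trans (SwapT.norm_K h.wc)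

theorem Q_le_T (hB : BT (S : Subgroup G) Q ≤ T) : Q ≤ T := (SwapT.K_le h.wc).trans hB

theorem zc_T_le (hT : IsPGroup 2 T) (hB : BT (S : Subgroup G) Q ≤ T) : zc T ≤ ZT (S : Subgroup G) Q :=
  (SwapT.lev_T (wc_nxt h.wc) h.lev.next hT ((SwapT.lb h.wc).KB.trans hB)).zc_le

theorem zc_le_lev {n : ℕ} (hn : lev (S : Subgroup G) n ≤ Q) : zc Q ≤ zc (lev (S : Subgroup G) n) :=
  (lev_isLev (S : Subgroup G) n).zc_le_zc hn h.lev.le

theorem zc_le_jj : zc Q ≤ zc (jj (S : Subgroup G)) := (Lev.zero (S : Subgroup G)).zc_le_zc h.lev.jjle h.lev.le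

/-- `BL S j ≤ B` -/
theorem BL_le {j : ℕ} (hj : lev (S : Subgroup G) j ≤ Q) : LevB.BL (S : Subgroup G) j ≤ BT (S : Subgroup G) Q := by
  refine inf_le_inf_left _ (centralizer_le ?_)
  exact (lev_isLev (S : Subgroup G) j).zc_le_zc (hj.trans (le_nxt h.lev.le)) (nxt_le _ _)

variable (fr : FrL (BT (S : Subgroup G) Q) Q V X₀ (ZT (S : Subgroup G) Q) L W Z C A q) (zcQ : zc Q ≤ V)
include fr zcQ

/-- **`QV`** -/
theorem qv (hT : IsPGroup 2 T) (hB : BT (S : Subgroup G) Q ≤ T) {X : Subgroup G} (hX : X ≤ Q)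
    (hsq : ∀ x ∈ X, x ^ 2 = 1) : YB.QV T X Q (V ⊓ X) where
  QT := Q_le_T h hB
  TQ := T_norm h hT hB
  mem := by
    intro x
    constructor
    · exact fun hx => ⟨hx.2, fun y hy => fr.cQ hy hx.1⟩
    · rintro ⟨hx, hxQ⟩
      exact ⟨zcQ (mem_zc.2 ⟨hX hx, hsq x hx, fun y hy => hxQ y hy⟩), hx⟩
  two := hT

/-- `V ≤ Ω₁Z(J(S))` -/
theorem V_le_jj (hV : V ≤ zc Q) : V ≤ zc (jj (S : Subgroup G)) := hV.trans (zc_le_jj h)

end two

variable [Finite ι] (h : WL S Q) (fr : FrL (BT (S : Subgroup G) Q) Q V X₀ (ZT (S : Subgroup G) Q) L W Z C A 2)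
  (zcQ : zc Q = V)
include h fr zcQ

/-- **LL at the levels inside `C_G(c)`.** -/
theorem low_lev {c : G} (hc : c ∈ ZT (S : Subgroup G) Q) (hcf : ∀ i, c ∉ C i) (hT : Syl T Y)
    (hB : BT (S : Subgroup G) Q ≤ T) (hP : IsMinPar T Y)
    (hYc : Y ≤ centralizer ({c} : Set G)) (hch : Y ⊓ centralizer (o2 Y : Set G) ≤ o2 Y) {n : ℕ}
    (hnQ : lev (S : Subgroup G) n ≤ Q) (hn : ¬ lev (S : Subgroup G) n ≤ o2 Y) : Y ≤ centralizer (zc T : Set G) := by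
  by_contra hZ
  obtain ⟨j, hjn, hlow, hnj⟩ := exists_stg (S : Subgroup G) hn
  have hle : lev (S : Subgroup G) j ≤ Q := (lev_mono _ hjn).trans hnQ
  obtain ⟨Λ, _, N, c', hy, ⟨l, hl⟩, hcN⟩ := exists_ybj_cent S hT ((BL_le h hle).trans hB) hP hch hlow hnj hZ
  have hVX : V ≤ zc (lev (S : Subgroup G) j) := zcQ.ge.trans (zc_le_lev h hle)
  have hV := qv h fr zcQ.le hT.2.1 hB (X := zc (lev (S : Subgroup G) j)) ((zc_le _).trans hle)
    fun x hx => (mem_zc.1 hx).2.1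
  rw [inf_eq_left.2 hVX] at hV
  have hcX : c ∈ zc (lev (S : Subgroup G) j) := hV.VX (fr.ZJV hc)
  have h1 := no_low_two fr hy hV hB hc hcf
    (hcN c hcX fun y hy' => mem_centralizer_singleton_iff.1 (hYc hy')) l
  exact hl ((zc_T_le h hT.2.1 hB).trans h1)

omit [Finite ι] fr in
theorem norm_jj_of (hl : jj (S : Subgroup G) ≤ o2 Y) : Y ≤ normalizer (jj (S : Subgroup G) : Set G) := fun g hg => by
  have hw : NO3b.Wc.WC (S : Subgroup G) (lev (S : Subgroup G) 0) := lev_wc 0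
  exact mem_normalizer_iff_cj.2 (LevD.norm_of_wc hw (isPGroup_o2 Y) hl (le_normalizer_o2 Y hg))

omit [Finite ι] fr in
theorem UY_le_jj (hl : jj (S : Subgroup G) ≤ o2 Y) : UY V Y ≤ zc (jj (S : Subgroup G)) :=
  NoFF.Basic.V_le fun f hf => by
    have h1 := cj_mono f (zcQ.ge.trans (zc_le_jj h))
    rwa [cj_eq_of_mem_normalizer (normalizer_le_zc _ (norm_jj_of h zcQ hl hf))] at h1

omit [Finite ι] fr in
theorem elab_UY (hl : jj (S : Subgroup G) ≤ o2 Y) : IsElementaryAbelian 2 (UY V Y) := by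
  have hle := UY_le_jj h zcQ hl
  exact ⟨⟨⟨fun a b => Subtype.ext (Lev.zc_comm (hle a.2) (hle b.2))⟩⟩, fun a ha => (mem_zc.1 (hle ha)).2.1⟩

omit [Finite ι] fr in
/-- best offenders of `T` on `⟨V^Y⟩` lie in `nxt S Q` -/
theorem best_le (hl : jj (S : Subgroup G) ≤ o2 Y) (hT : IsPGroup 2 T) (hB : BT (S : Subgroup G) Q ≤ T) {X : Subgroup G}
    (hX : X ≤ T) (hb : Best (UY V Y) X) : X ≤ nxt (S : Subgroup G) Q ∧ Best (zc Q) X := by
  have hb' : Best (zc Q) X := best_of_le (elem_comm (elab_UY h zcQ hl)) hb (zcQ.le.trans V_le_UY)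
  exact ⟨h.le_nxt_of_best hT (h.lb.KB.trans hB) hX hb', hb'⟩

/-- **THEOREM LAMBDA over `(Q, V)`.** -/
theorem low_off {c : G} (hc : c ∈ ZT (S : Subgroup G) Q) (hcf : ∀ i, c ∉ C i) (hT : Syl T Y)
    (hB : BT (S : Subgroup G) Q ≤ T) (hP : IsMinPar T Y)
    (hYc : Y ≤ centralizer ({c} : Set G)) (hch : Y ⊓ centralizer (o2 Y : Set G) ≤ o2 Y)
    (hl : jj (S : Subgroup G) ≤ o2 Y) (hoff : ∃ A, A ≤ T ∧ Best (UY V Y) A ∧ ¬ A ≤ o2 Y) :
    Y ≤ centralizer (zc T : Set G) := by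
  by_contra hZ
  set U := UY V Y with hU
  have hel : IsElementaryAbelian 2 U := elab_UY h zcQ hl
  have hUj : U ≤ zc (jj (S : Subgroup G)) := UY_le_jj h zcQ hl
  have hVU : V ≤ U := V_le_UY
  have hUn : Y ≤ normalizer (U : Set G) := norm_UY
  have hJU : ZT (S : Subgroup G) Q ≤ U := fun x hx => hVU (fr.ZJV hx)
  have hzU : zl T Y ≤ U := ZN.zl_le ((zc_T_le h hT.2.1 hB).trans hJU) hUn
  have hQC := OM.BlkGen.inf_cent hT hP hZ
  obtain ⟨A₁, hA₁T, hb₁, hA₁O⟩ := hoff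
  have hA₁ : A₁ ∈ bo T U := ⟨hA₁T, hb₁.toElemM, fun B h1 h2 => hb₁.max B h2 h1⟩
  have hoffM : OffM (zl T Y) A₁ :=
    { toElemM := elemM_mono hb₁.toElemM hzU le_rfl
      ne := fun h1 => hA₁O ((le_inf hA₁T h1).trans hQC)
      le := (bo_fam T U).off (elem_comm hel) hzU hA₁ }
  obtain ⟨hno, hcon⟩ := FF.Glob.ffthmM G T Y hT hP hch ⟨A₁, hA₁T.trans hT.1, hoffM⟩
  have ge : GE T Y U (bo T U) :=
    { hm := SQ1.FFOne.minH_of hT hP hch
      fam := bo_fam T U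
      elem := hel
      norm := hUn
      VX := hzU
      QC := hQC
      noOver := hno }
  have hAB : ∀ A ∈ bo T U, A ≤ BT (S : Subgroup G) Q := by
    intro A hA
    have hb : Best U A := { toElemM := hA.2.1, max := fun B h1 h2 => hA.2.2 B h2 h1 }
    exact (best_le h zcQ hl hT.2.1 hB hA.1 hb).1.trans h.lb.KB
  have hjQ : zc (jj (S : Subgroup G)) ≤ Q := (zc_le _).trans h.lev.jjle
  have hUT : U ≤ T := (hUj.trans hjQ).trans (Q_le_T h hB)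
  obtain ⟨Λ, _, N, c', yx⟩ := NO3S.CaseLW.YBX.exists_ybx ge hUT hcon ⟨A₁, hA₁, hA₁O⟩ hZ
  have yd : YD T Y U (bo T U) N c' := ⟨yx.yb, yx.ex, fun x hx => yx.cen x hx.1, yx.com⟩
  obtain ⟨l, hll⟩ := yd.mv
  have hV := qv h fr zcQ.le hT.2.1 hB (X := U ⊓ centralizer ((sSup (bo T U) : Subgroup G) : Set G))
    (inf_le_left.trans (hUj.trans hjQ)) fun x hx => (mem_zc.1 (hUj hx.1)).2.1
  have h1 := core fr ge hB hVU hAB yd hV hc hcf
    (fun y hy => mem_centralizer_singleton_iff.1 (hYc hy)) l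
  exact hll ((zc_T_le h hT.2.1 hB).trans h1)

omit [Finite ι] fr in
/-- **The family.** -/
theorem fam_of_off (hT : Syl T Y) (hB : BT (S : Subgroup G) Q ≤ T) (hl : jj (S : Subgroup G) ≤ o2 Y)
    (hoff : ∃ A, A ≤ T ∧ Best (UY V Y) A ∧ ¬ A ≤ o2 Y) :
    ∃ 𝓐 : Set (Subgroup G),
      (∀ Λ : Subgroup G, IsElementaryAbelian 2 Λ → Λ ≤ Y → Y ≤ normalizer (Λ : Set G) → Λ ≤ UY V Y → Fm Y Λ 𝓐) ∧
      (∃ X ∈ 𝓐, X ≤ T ∧ ¬ X ≤ o2 Y) ∧
      ∀ X ∈ 𝓐, X ≤ T → X ≤ BT (S : Subgroup G) Q ∧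
        ((∀ a ∈ X, ∀ v ∈ V, a * v = v * a) ∨ OM.Lev.Uni.Best (zc Q) X) := by
  have hel := elab_UY h zcQ hl
  refine ⟨BF Y (UY V Y), fun Λ _ _ hn hle => fm_best hel norm_UY hle hn, ?_, fun X hX hXT => ?_⟩
  · obtain ⟨A, hA, hb, hn⟩ := hoff
    exact ⟨A, ⟨hA.trans hT.1, hT.2.1.to_le hA, hb⟩, hA, hn⟩
  · obtain ⟨h1, h2⟩ := best_le h zcQ hl hT.2.1 hB hXT hX.2.2
    exact ⟨h1.trans h.lb.KB, Or.inr fun F' h1 h3 => h2.max F' h3 h1⟩

omit [Finite ι] fr in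
/-- **Fixed points do not lift.** -/
theorem fix_of_off (hT : Syl T Y) (hmin : IsMinPar T Y)
    (hl : jj (S : Subgroup G) ≤ o2 Y) (hz : Y ≤ centralizer (zc T : Set G))
    (hoff : ∃ A, A ≤ T ∧ Best (UY V Y) A ∧ ¬ A ≤ o2 Y) :
    UY V Y ⊓ zc (o2 Y) ≤ centralizer (oddGen Y : Set G) := by
  obtain ⟨A, hAT, hb, hAO⟩ := hoff
  have hOT : o2 Y ≤ T := o2_le_syl hT
  have hc := elem_comm (elab_UY h zcQ hl)
  have hb' : Best (UY V Y ⊓ zc (o2 Y)) A := best_of_le hc hb inf_le_left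
  have hUO : UY V Y ⊓ zc (o2 Y) ≤ o2 Y := inf_le_right.trans (zc_le _)
  have hsq : ∀ y ∈ UY V Y ⊓ zc (o2 Y), y ^ 2 = 1 := fun u hu => (mem_zc.1 hu.2).2.1
  have hcom : UY V Y ⊓ zc (o2 Y) ≤ centralizer ((UY V Y ⊓ zc (o2 Y) : Subgroup G) : Set G) := by
    intro u hu
    rw [mem_centralizer_iff]
    exact fun v hv => (mem_zc.1 hu.2).2.2 v (mem_zc.1 hv.2).1
  have hN : Y ≤ normalizer ((UY V Y ⊓ zc (o2 Y) : Subgroup G) : Set G) :=
    NO3b.K0.norm_inf norm_UY ((le_normalizer_o2 Y).trans (normalizer_le_zc _))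
  have hQ : o2 Y ≤ centralizer ((UY V Y ⊓ zc (o2 Y) : Subgroup G) : Set G) :=
    (le_centralizer_zc _).trans (centralizer_le inf_le_right)
  refine NO3S.Fld.ff_lemma_off FF.Glob.aStmt hT hmin (hUO.trans (o2_le Y)) hsq hcom hN hQ ?_ hAT hAO hb'.toElemM ?_
  · rintro x ⟨hx, hxT⟩
    have hxz : x ∈ zc T := mem_zc.2 ⟨hOT (hUO hx), hsq x hx, fun t ht => mem_centralizer_iff.1 hxT t ht⟩
    rw [mem_centralizer_iff]
    exact fun e he => (mem_centralizer_iff.1 (hz (oddGen_le Y he)) x hxz).symm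
  · have h2 := hb'.max (A ⊓ centralizer ((UY V Y ⊓ zc (o2 Y) : Subgroup G) : Set G)) inf_le_left le_rfl
    have e : (UY V Y ⊓ zc (o2 Y)) ⊓ centralizer ((A ⊓ centralizer ((UY V Y ⊓ zc (o2 Y) : Subgroup G) : Set G) :
        Subgroup G) : Set G) = UY V Y ⊓ zc (o2 Y) :=
      inf_eq_left.2 (le_centralizer_iff.1 inf_le_right)
    rw [e, mul_comm] at h2
    exact h2

end Cfsg.Agent.Omega.NOThreeL.QWR.LowT
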