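import Cfsg.Agent.Mrg.Omega.NOThreeL.QWR.NlTop
import Cfsg.Agent.Mrg.Omega.NOThreeL.QWR.LowM


/-!
# NO-3L, box R, one class, the level `(Q, V*)`: no 2-group `≠ 1` is normalised by `C_G(Z_J)` and all `L i`

`wl : WL S Q`, `Ω₁Z(Q) = V`, `FrL (BK S Q) Q V V (ZK S Q) L W Z C A 2` (any `S`-orbits of blocks), `Q ≤ O₂(P)` for all
`P ∈ P*(S)`.

* `exists_full` : an element of full support in `Ω₁Z(S)`;
* **`exists_MQ`** : `NlTop.exists_M` at `K₀ = Q`;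
* **`cz_le_M`** : `C_G(Z) ≤ M` for `M ≥ C_G(Z_J), L i, N_G(B)`, all FF-blocks over `B` in `V`, and QW for the pairs `F ≰ M`;
* **`nl_q`** : no 2-group `≠ 1` is normalised by `C_G(Z_J)` and all `L i`.
-/

set_option autoImplicit false
set_option linter.unusedSectionVars false

namespace Cfsg.Agent.Omega.NOThreeL.QWR.NlQ

open Subgroup Cfsg Cfsg.Agent.Omega.MinPar Cfsg.Agent.Omega.Frame Cfsg.Agent.ZN.ChoiceBase Cfsg.Agent.ZN.ChoiceSit
open Cfsg.Agent.ZN (zc o2 jj)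
open Cfsg.Agent.Omega.NO3S.Level (lev Lev nxt)
open Cfsg.Agent.Omega.OM
open Cfsg.Agent.Omega.OM.LevB (FBlk)
open Cfsg.Agent.Omega.OM.Lev.Uni (FrL)
open Cfsg.Agent.Omega.OM.SwapK (WL BK ZK)
open Cfsg.Agent.Omega.OM.SwapV (CrA BMH)
open Cfsg.Agent.Omega.NOThreeL.RTree (RB)
open Cfsg.Agent.Omega.NOThreeL.Merge (MZ)
open Cfsg.Agent.Omega.FrameNOFF (CZ)
open Cfsg.Agent.Omega.NOThreeL.QWR.LowM (OffM)

universe u

variable {G : Type u} [Group G] [Finite G] {ι : Type} [Finite ι] {S : Sylow 2 G} {Q V : Subgroup G}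
  {L W Z C A : ι → Subgroup G}

/-- **An element of full support in `Ω₁Z(S)`.** -/
theorem exists_full {K B ZJ : Subgroup G} (h : CrA S K B V ZJ L W Z C A) :
    ∃ c ∈ zc (S : Subgroup G), ∀ i, c ∉ C i := by
  obtain ⟨x, hx, hs⟩ := OM.SwapV.Cr.exists_supp h.toCr Set.univ
  have hn : ∀ i, x ∉ C i := fun i hi => ((hs i).1 hi) (Set.mem_univ i)
  refine ⟨x, mem_zc.2 ⟨h.lb.BS (h.lb.ZB hx), h.lb.sq x hx, fun s hs' => ?_⟩, hn⟩
  exact OM.SwapV.Cr.comm_of_supp h.toCr (h.lb.two_le S.isPGroup' h.lb.BS hs') hx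
    fun i j _ => ⟨fun h1 => absurd h1 (hn i), fun h1 => absurd h1 (hn j)⟩

section top

variable (wl : WL S Q) (hz : zc Q = V) (fr : FrL (BK (S : Subgroup G) Q) Q V V (ZK (S : Subgroup G) Q) L W Z C A 2)
include wl hz fr

/-- **The local group `M`** at the level `(Q, V)`. -/
theorem exists_MQ (B : RB S) (hall : ∀ P : Subgroup G, IsParS (S : Subgroup G) P → Q ≤ o2 P)
    {R : Subgroup G} (hR : IsPGroup 2 R) (hR1 : R ≠ ⊥)
    (hD : centralizer (ZK (S : Subgroup G) Q : Set G) ≤ normalizer (R : Set G))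
    (hLR : ∀ i, L i ≤ normalizer (R : Set G)) :
    ∃ M O : Subgroup G, M = normalizer (O : Set G) ∧ IsPGroup 2 O ∧ O ≠ ⊥ ∧ O ≤ BK (S : Subgroup G) Q ∧
      O = o2 (centralizer (ZK (S : Subgroup G) Q : Set G) ⊔ ⨆ i, L i) ∧ IsLoc (S : Subgroup G) M ∧
      centralizer (ZK (S : Subgroup G) Q : Set G) ≤ M ∧ (∀ i, L i ≤ M) ∧
      normalizer (BK (S : Subgroup G) Q : Set G) ≤ M ∧ normalizer (ZK (S : Subgroup G) Q : Set G) ≤ M ∧
      MZ (S : Subgroup G) ≤ M ∧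
      (∀ L' V' : Subgroup G, FBlk (BK (S : Subgroup G) Q) L' V' → V' ≤ zc Q → L' ≤ M) := by
  have fr' : FrL (OM.SwapT.BT (S : Subgroup G) Q) Q V (zc Q) (OM.SwapT.ZT (S : Subgroup G) Q) L W Z C A 2 := by
    rw [hz]
    exact fr
  exact NlTop.exists_M B wl.wc wl.lev fr' hall hR hR1 hD hLR

/-- **`C_G(Z) ≤ M`.** -/
theorem cz_le_M (cr : CrA S (nxt (S : Subgroup G) Q) (BK (S : Subgroup G) Q) V (ZK (S : Subgroup G) Q) L W Z C A)
    {M : Subgroup G} (hS1 : (S : Subgroup G) ≠ ⊥) (ho : OffM S V Q M)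
    (hD : centralizer (ZK (S : Subgroup G) Q : Set G) ≤ M) (hLM : ∀ i, L i ≤ M)
    (hN : normalizer (BK (S : Subgroup G) Q : Set G) ≤ M)
    (hF : ∀ L' V' : Subgroup G, FBlk (BK (S : Subgroup G) Q) L' V' → V' ≤ zc Q → L' ≤ M) :
    CZ (S : Subgroup G) ≤ M := by
  obtain ⟨c, hc, hcf⟩ := exists_full cr
  exact cr.cz_leN (LowM.bmh_of wl fr hz ho hc hcf hF hN) hLM hD hN hS1

/-- **No 2-group `≠ 1` is normalised by `C_G(Z_J)` and all `L i`.** -/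
theorem nl_q (B : RB S) (hall : ∀ P : Subgroup G, IsParS (S : Subgroup G) P → Q ≤ o2 P)
    (cr : ∀ M : Subgroup G, IsLoc (S : Subgroup G) M → centralizer (ZK (S : Subgroup G) Q : Set G) ≤ M →
      (∀ i, L i ≤ M) → normalizer (BK (S : Subgroup G) Q : Set G) ≤ M → MZ (S : Subgroup G) ≤ M →
      OffM S V Q M ∧ CrA S (nxt (S : Subgroup G) Q) (BK (S : Subgroup G) Q) V (ZK (S : Subgroup G) Q) L W Z C A)
    {R : Subgroup G} (hR : IsPGroup 2 R)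
    (hD : centralizer (ZK (S : Subgroup G) Q : Set G) ≤ normalizer (R : Set G))
    (hLR : ∀ i, L i ≤ normalizer (R : Set G)) : R = ⊥ := by
  by_contra hR1
  obtain ⟨M, O, rfl, hO2, hO1, hOB, -, h1, h2, h3, h4, -, h6, h7⟩ := exists_MQ wl hz fr B hall hR hR1 hD hLR
  obtain ⟨ho, hc⟩ := cr _ h1 h2 h3 h4 h6
  have hS1 : (S : Subgroup G) ≠ ⊥ := fun e => hO1 (by
    have h8 := hOB.trans wl.lb.BS
    rw [e] at h8
    exact le_bot_iff.1 h8)
  exact hO1 (FrameNOFF.eq_bot_of_norm B.ctx S B.full hO2 (fun P hP => (le_sSup hP).trans h6)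
    (cz_le_M wl hz fr hc hS1 ho h2 h3 h4 h7))

end top

end Cfsg.Agent.Omega.NOThreeL.QWR.NlQ
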