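import Cfsg.Agent.Mrg.Omega.NOThreeL.QWR.NlLt
import Cfsg.Agent.Mrg.Omega.NOThreeL.QWR.LtVOf


/-!
# NO-3L, box R, one class: `nl` at the top level `(Q, V*)` from THEOREM QW

* **`nl_wd`** : `RB S`, `WL S Q`, `Ω₁Z(Q) = V*`, the frame over `(BK S Q, Q, V*, V*, ZK S Q)` with `L i ≤ MZ S`, and THEOREM
  QW (`OffR S V* Q`) whenever a local group `M ≥ C_G(Z_J), L i, N_G(B), MZ S` exists: no 2-group `≠ 1` is normalised by
  `C_G(Z_J)` and all `L i`.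
-/

set_option autoImplicit false
set_option linter.unusedSectionVars false

namespace Cfsg.Agent.Omega.NOThreeL.QWR.NlWd

open Subgroup Cfsg Cfsg.Agent.Omega.MinPar Cfsg.Agent.Omega.Frame Cfsg.Agent.ZN.ChoiceBase Cfsg.Agent.ZN.ChoiceSit
open Cfsg.Agent.ZN (zc o2 jj)
open Cfsg.Agent.Omega.OM.Lev.Uni (FrL)
open Cfsg.Agent.Omega.OM.SwapK (WL BK ZK)
open Cfsg.Agent.Omega.NOThreeL.RTree (RB)
open Cfsg.Agent.Omega.NOThreeL.RRed (Wd)
open Cfsg.Agent.Omega.NOThreeL.Merge (MZ)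
open Cfsg.Agent.Omega.NOThreeL.QWR.Sw (LtV OffR)
open Cfsg.Agent.Omega.NOThreeL.QWR.FrTop (ltV_of)

universe u

variable {G : Type u} [Group G] [Finite G] {ι : Type} [Finite ι] {S : Sylow 2 G} {Q : Subgroup G}
  {L W Z C A : ι → Subgroup G}

/-- **`nl` at `(Q, V*)`.** -/
theorem nl_wd (B : RB S) (wl : WL S Q) (hX : zc Q = Wd (S : Subgroup G))
    (fr : FrL (BK (S : Subgroup G) Q) Q (Wd (S : Subgroup G)) (Wd (S : Subgroup G)) (ZK (S : Subgroup G) Q) L W Z C A 2)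
    (hL : ∀ i, L i ≤ MZ (S : Subgroup G))
    (off : ∀ M : Subgroup G, IsLoc (S : Subgroup G) M → centralizer (ZK (S : Subgroup G) Q : Set G) ≤ M →
      (∀ i, L i ≤ M) → normalizer (BK (S : Subgroup G) Q : Set G) ≤ M → MZ (S : Subgroup G) ≤ M →
      OffR S (Wd (S : Subgroup G)) Q)
    {R : Subgroup G} (hR : IsPGroup 2 R)
    (hD : centralizer (ZK (S : Subgroup G) Q : Set G) ≤ normalizer (R : Set G))
    (hLR : ∀ i, L i ≤ normalizer (R : Set G)) : R = ⊥ :=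
  NlLt.nl_lt (ltV_of B wl hX fr hL) fr B (FrTop.hall wl.lev.le hX.ge) off hR hD hLR

end Cfsg.Agent.Omega.NOThreeL.QWR.NlWd
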