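import Cfsg.Agent.Mrg.Omega.NOThreeL.QWR.LowM
import Cfsg.Agent.Mrg.Omega.NOThreeL.RRed.BFr.Top
import Cfsg.Agent.Mrg.Omega.NOThreeL.QWR.Sw.Base
import Cfsg.Agent.Mrg.Omega.NOThreeL.QWR.GlueQ

section


/-!
# THEOREM QW at the top level `(Q, V*)` in the form `OffR` (box R, one class, any `q`)

* `zz_eq`, `bb_eq` : the bridge between `QWR.{ZZ, BB}` and `SwapK.{ZK, BK}`;
* **`offR_of`** : `Sw.OffR S V* Q` from THEOREM QW, for one group `M ≥ C_G(Z_J), MZ S` with `⟨V*^F⟩ ≤ O₂(M)` for the pairs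
  under `(neg)`.
-/

set_option autoImplicit false
set_option linter.unusedSectionVars false

namespace Cfsg.Agent.Omega.NOThreeL.QWR

open Subgroup Cfsg Cfsg.Agent.ZN.ChoiceBase Cfsg.Agent.ZN.ChoiceSit Cfsg.Agent.Omega.MinPar Cfsg.Agent.Omega.Frame
open Cfsg.Agent.ZN (jj zc zl o2)
open Cfsg.Agent.Omega.FrameNOFF (CZ)
open Cfsg.Agent.MinSimple.MinParabolic (IsMinPar)
open Cfsg.Agent.MinSimple.VModule (oddGen)
open Cfsg.Agent.Omega.NO1.BestOff (Best)
open Cfsg.Agent.Omega.NO3b.EZero (cl)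
open Cfsg.Agent.Omega.NO3S.CaseLW.QWc (Neg)
open Cfsg.Agent.Omega.OM.SwapK (WL BK ZK)
open Cfsg.Agent.Omega.NO3S.Level (nxt Lev)
open Cfsg.Agent.Omega.NOThreeL.Merge (MZ)
open Cfsg.Agent.Omega.NOThreeL.RRed (Wd)
open Cfsg.Agent.Omega.NOThreeL.QWR.FrTop (QT)

universe u

variable {G : Type u} [Group G] [Finite G] {S : Sylow 2 G}

/-- `ZZ = ZK` at the level `(Q, V*)` -/
theorem zz_eq (hl : Lev (S : Subgroup G) (QT (S : Subgroup G))) (hz : zc (QT (S : Subgroup G)) = Wd (S : Subgroup G)) :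
    ZZ (S : Subgroup G) (MZ (S : Subgroup G)) = ZK (S : Subgroup G) (QT (S : Subgroup G)) := by
  rw [FrTop.zk_eq hl hz, ← FrTop.nxtX_zc, hz]
  rfl

/-- `BB = BK` at the level `(Q, V*)` -/
theorem bb_eq (hl : Lev (S : Subgroup G) (QT (S : Subgroup G))) (hz : zc (QT (S : Subgroup G)) = Wd (S : Subgroup G)) :
    BB (S : Subgroup G) (MZ (S : Subgroup G)) = BK (S : Subgroup G) (QT (S : Subgroup G)) := by
  unfold BB
  rw [zz_eq hl hz]
  rfl

/-- the pairs of `OffR` satisfy `WR` -/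
theorem wr_of (rq : RQ S (MZ (S : Subgroup G))) (hl : Lev (S : Subgroup G) (QT (S : Subgroup G)))
    (hz : zc (QT (S : Subgroup G)) = Wd (S : Subgroup G)) {T F : Subgroup G} (hT : Syl T F)
    (hB : BK (S : Subgroup G) (QT (S : Subgroup G)) ≤ T) (hTS : T ≤ (S : Subgroup G)) (hP : IsMinPar T F)
    (hch : F ⊓ centralizer (o2 F : Set G) ≤ o2 F) (hj : jj (S : Subgroup G) ≤ o2 F)
    (hQ : ¬ QT (S : Subgroup G) ≤ o2 F)
    (hmv : ¬ oddGen F ≤ centralizer (ZK (S : Subgroup G) (QT (S : Subgroup G)) : Set G)) :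
    WR S (MZ (S : Subgroup G)) T F where
  rq := rq
  TS := hTS
  QT := by
    refine le_trans ?_ hB
    rw [← bb_eq hl hz]
    exact inf_le_inf le_rfl (centralizer_le (by exact_mod_cast (inf_le_left :
      ZZ (S : Subgroup G) (MZ (S : Subgroup G)) ≤ zl (S : Subgroup G) (MZ (S : Subgroup G)))))
  syl := hT
  min := hP
  c2 := hch
  mvL := fun h => hmv (h.trans (centralizer_le (by
    have h1 : ZK (S : Subgroup G) (FrTop.QT (S : Subgroup G)) ≤ zl (S : Subgroup G) (MZ (S : Subgroup G)) := by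
      rw [← zz_eq hl hz]
      exact inf_le_left
    exact_mod_cast h1)))
  nQ := hQ
  jY := hj

/-- **THEOREM QW in the form of helper587's `OffR`.** -/
theorem offR_of (rq : RQ S (MZ (S : Subgroup G))) (hl : Lev (S : Subgroup G) (QT (S : Subgroup G)))
    (hz : zc (QT (S : Subgroup G)) = Wd (S : Subgroup G)) {M : Subgroup G}
    (hM : centralizer (ZK (S : Subgroup G) (QT (S : Subgroup G)) : Set G) ≤ M) (hP : MZ (S : Subgroup G) ≤ M)
    (hUM : ∀ T F : Subgroup G, WR S (MZ (S : Subgroup G)) T F → BB (S : Subgroup G) (MZ (S : Subgroup G)) ≤ T →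
      F ≤ CZ (S : Subgroup G) → ¬ oddGen F ≤ centralizer (ZZ (S : Subgroup G) (MZ (S : Subgroup G)) : Set G) →
      Neg T F (cl (Wd (S : Subgroup G)) F) → cl (Wd (S : Subgroup G)) F ≤ o2 M) :
    Sw.OffR S (Wd (S : Subgroup G)) (QT (S : Subgroup G)) := by
  intro T F hT hB hTS hmin hch hF hj hQ hmv
  have h := wr_of rq hl hz hT hB hTS hmin hch hj hQ hmv
  have hB' : BB (S : Subgroup G) (MZ (S : Subgroup G)) ≤ T := (bb_eq hl hz).le.trans hB
  have hmv' : ¬ oddGen F ≤ centralizer (ZZ (S : Subgroup G) (MZ (S : Subgroup G)) : Set G) := by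
    rwa [zz_eq hl hz]
  obtain ⟨A, h1, h2, -, h3⟩ := exists_best_odd h hB' (M := M) (by rwa [zz_eq hl hz]) hP hmv'
    (hUM T F h hB' hF hmv')
  exact ⟨A, h1, h2, h3⟩

end Cfsg.Agent.Omega.NOThreeL.QWR

end

section


/-!
# NO-3L, box R, one class, top level `(Q, V*)`, `q ≥ 4`: the local case, from THEOREM QW

* **`top_false_q`** : no local group `M ≥ C_G(Z_J), MZ S, N_G(B)` with `NQ S Q M` and `⟨V*^F⟩ ≤ O₂(M)` for all
  `F ≤ C_G(Z)` exists;
* `top_false_nV` : the same with `N_G(V*) ≤ M`; `top_false_blk` : with the FF-blocks over `B` which normalise `Q` in `M`.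
-/

set_option autoImplicit false
set_option linter.unusedSectionVars false

namespace Cfsg.Agent.Omega.NOThreeL.QWR.GlueQ

open Subgroup Cfsg Cfsg.Agent.ZN.ChoiceBase Cfsg.Agent.ZN.ChoiceSit Cfsg.Agent.Omega.MinPar Cfsg.Agent.Omega.Frame
open Cfsg.Agent.ZN (jj zj bau zc zl o2)
open Cfsg.Agent.Omega.FrameNOFF (CZ)
open Cfsg.Agent.Omega.NO3b.EZero (cl)
open Cfsg.Agent.Omega.NO3S.Level (lev Lev nxt)
open Cfsg.Agent.Omega.OM.SwapK (WL BK ZK)
open Cfsg.Agent.Omega.NOThreeL.RTree (RB)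
open Cfsg.Agent.Omega.NOThreeL.Merge (MZ)
open Cfsg.Agent.Omega.NOThreeL.RRed (Wd)
open Cfsg.Agent.Omega.NOThreeL.RRed.QFr.Top (Qv TopH TopQ)

universe u

variable {G : Type u} [Group G] [Finite G] {ι : Type} [Finite ι] {S : Sylow 2 G} {M : Subgroup G}
  {L W Z C A : ι → Subgroup G} {q : ℕ}

/-- **The local case at the top level, `q ≥ 4`, is impossible.** -/
theorem top_false_q [Nonempty ι] (B : RB S) (rq : RQ S (MZ (S : Subgroup G))) (th : TopH S)
    (tq : TopQ S L W Z C A q) (hq : 4 ≤ q) (hl : IsLoc (S : Subgroup G) M)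
    (hD : centralizer (ZK (S : Subgroup G) (Qv S) : Set G) ≤ M) (hY : MZ (S : Subgroup G) ≤ M)
    (hN : normalizer (BK (S : Subgroup G) (Qv S) : Set G) ≤ M) (nQ : NQ S (Qv S) M)
    (hU : ∀ F ≤ CZ (S : Subgroup G), cl (Wd (S : Subgroup G)) F ≤ o2 M) : False :=
  have hj : jj (S : Subgroup G) ≤ Qv S := rq.jQ
  false_top B th hj tq hq
    (offR_of rq (wl_of th hj).lev th.zc hD hY fun _ F _ _ hF _ _ => hU F hF) hl hD hY hN nQ

/-- The same with `N_G(V*) ≤ M`. -/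
theorem top_false_nV [Nonempty ι] (B : RB S) (rq : RQ S (MZ (S : Subgroup G))) (th : TopH S)
    (tq : TopQ S L W Z C A q) (hq : 4 ≤ q) (hl : IsLoc (S : Subgroup G) M)
    (nV : normalizer (Wd (S : Subgroup G) : Set G) ≤ M)
    (hD : centralizer (ZK (S : Subgroup G) (Qv S) : Set G) ≤ M)
    (hU : ∀ F ≤ CZ (S : Subgroup G), cl (Wd (S : Subgroup G)) F ≤ o2 M) : False := by
  have hj : jj (S : Subgroup G) ≤ Qv S := rq.jQ
  have wl := wl_of th hj
  have h1 : normalizer (Qv S : Set G) ≤ normalizer (Wd (S : Subgroup G) : Set G) := by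
    have h2 := NO3S.Level.normalizer_le_zc (Qv S)
    rwa [th.zc] at h2
  exact top_false_q B rq th tq hq hl hD (RRed.le_norm_Wd.trans nV) ((wl.norm_B.trans h1).trans nV)
    (nQ_of_norm wl (h1.trans nV)) hU

/-- The same with the FF-blocks over `B` which normalise `Q` (`KQ ≤ M`). -/
theorem top_false_blk [Nonempty ι] (B : RB S) (rq : RQ S (MZ (S : Subgroup G))) (th : TopH S)
    (tq : TopQ S L W Z C A q) (hq : 4 ≤ q) (hl : IsLoc (S : Subgroup G) M)
    (hD : centralizer (ZK (S : Subgroup G) (Qv S) : Set G) ≤ M) (hY : MZ (S : Subgroup G) ≤ M)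
    (hN : normalizer (BK (S : Subgroup G) (Qv S) : Set G) ≤ M)
    (hF : ∀ L' V' : Subgroup G, OM.LevB.FBlk (BK (S : Subgroup G) (Qv S)) L' V' →
      L' ≤ normalizer (Qv S : Set G) → L' ≤ M)
    (hU : ∀ F ≤ CZ (S : Subgroup G), cl (Wd (S : Subgroup G)) F ≤ o2 M) : False :=
  top_false_q B rq th tq hq hl hD hY hN (nQ_of_blk (wl_of th rq.jQ) hN hF) hU

end Cfsg.Agent.Omega.NOThreeL.QWR.GlueQ

end
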