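import Cfsg.Agent.Mrg.Omega.NOThreeL.QWR.LowW
import Cfsg.Agent.Mrg.Omega.NOThreeL.QWR.LowM
import Cfsg.Agent.Mrg.Omega.NOThreeL.RLev.HatEnd


/-!
# Box R, the top level `(Q, V*)`, `Q = C_S(V*)` weakly closed, `Ω₁Z(Q) ≤ V*`: the data `RQ S M₀`

`M₀ = MZ S = ⟨P*(S)⟩`, `V* = Wd S = V_{M₀}`.

* `norm_Q` : `M₀ ≤ N(Q)`;
* **`rq_of`** : `RQ S M₀`, from `RB S`, `RR S = ⊥`, `J(S) ≤ Q`, `V* ≤ O₂(C_G(Z))`, `V*` irreducible for `M₀`;
* **`rq_bks`**, **`rq_src`** : the same for `𝔽₂`-blocks, natural blocks, `Wide S`, one class.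
-/

set_option autoImplicit false
set_option linter.unusedSectionVars false

namespace Cfsg.Agent.Omega.NOThreeL.QWR.RQOf

open Subgroup Cfsg Cfsg.Agent.Omega.MinPar Cfsg.Agent.Omega.Frame Cfsg.Agent.Omega.FrameNOFF
open Cfsg.Agent.ZN (o2 zc zl jj)
open Cfsg.Agent.ZN.ChoiceBase hiding mem_zc
open Cfsg.Agent.Omega.Node.NO3L Cfsg.Agent.Omega.NOThreeL.Basic
open Cfsg.Agent.Omega.NOThreeL.RTree (RB)
open Cfsg.Agent.Omega.NOThreeL.Merge (MZ le_MZ S_le_MZ isLoc_MZ nonLoc_MZ)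
open Cfsg.Agent.Omega.NOThreeL.RRed (Wd zc_le_Wd wcomm wsq WS)
open Cfsg.Agent.Omega.NOThreeL.RRed.FourTree (Bks)
open Cfsg.Agent.Omega.NOThreeL.RRed.WideTree (NBs Src Wide CM)
open Cfsg.Agent.Omega.NO3b.Wc (WC)
open Cfsg.Agent.Omega.NO3b.EndX (AbsP)
open Cfsg.Agent.Omega.ML.Final (MLK)
open Cfsg.Agent.Omega.FFThm (NoOverM ElemM)
open Cfsg.Agent.MinSimple.VModule (zc_le_zl le_normalizer_zl mem_zc le_normalizer_o2)
open scoped Pointwise

universe u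

variable {G : Type u} [Group G] [Finite G] {S : Sylow 2 G}

/-- every `P ∈ P*(S)` normalises `Q = C_S(V*)` -/
theorem norm_Q (B : RB S)
    (wc : WC (S : Subgroup G) ((S : Subgroup G) ⊓ centralizer (Wd (S : Subgroup G) : Set G))) :
    MZ (S : Subgroup G) ≤
      normalizer (((S : Subgroup G) ⊓ centralizer (Wd (S : Subgroup G) : Set G) : Subgroup G) : Set G) := by
  refine sSup_le fun P hP p hp => ?_
  rw [mem_normalizer_iff_cj]
  refine wc.eq p ?_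
  have h1 : (S : Subgroup G) ⊓ centralizer (Wd (S : Subgroup G) : Set G) ≤ o2 P := fun x hx =>
    mem_o2_of_cent B.ctx.char2 S hP hx.1 (centralizer_le (Star.zl_mono _ (le_MZ hP)) hx.2)
  have h2 := cj_mono p h1
  rw [cj_eq_of_mem_normalizer (le_normalizer_o2 P hp)] at h2
  exact h2.trans (hP.isLoc.o2_le S)

/-- **The data `RQ`.** -/
theorem rq_of (ml : MLK.{u, u}) (ha : AbsP.{u, u}) (B : RB S) (hr : RZ.RR (S : Subgroup G) = ⊥)
    (hj : jj (S : Subgroup G) ≤ centralizer (Wd (S : Subgroup G) : Set G))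
    (low : Wd (S : Subgroup G) ≤ o2 (CZ (S : Subgroup G)))
    (irr : ∀ W ≤ Wd (S : Subgroup G), MZ (S : Subgroup G) ≤ normalizer (W : Set G) → W ≠ ⊥ → Wd (S : Subgroup G) ≤ W)
    (wc : WC (S : Subgroup G) ((S : Subgroup G) ⊓ centralizer (Wd (S : Subgroup G) : Set G)))
    (zQ : zc ((S : Subgroup G) ⊓ centralizer (Wd (S : Subgroup G) : Set G)) ≤ Wd (S : Subgroup G)) :
    RQ S (MZ (S : Subgroup G)) where
  c2 := B.ctx.char2
  zne := MinSimple.Basic.zc_ne_bot S.isPGroup' (B.ctx.sylow_ne_bot S)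
  loc := isLoc_MZ B.ctx B.full B.data.noff
  nonloc := nonLoc_MZ B.ctx B.full
  wc := wc
  jQ := le_inf (MinSimple.Basic.jj_le _) hj
  PQ := norm_Q B wc
  zQ := zQ
  low := low
  no A hA hE _ := RRed.FourNoK2.noOver B hr A hA hE
  irr := irr
  nr _ h := NO3b.BasePt.false_of_nfRoot B.ctx ml ha h

/-- **`RQ` for `𝔽₂`-blocks, one class.** -/
theorem rq_bks (ml : MLK.{u, u}) (ha : AbsP.{u, u}) (h : Wide S)
    (hC : CM (S : Subgroup G) (fun _ : PUnit.{u + 1} => Wd (S : Subgroup G)))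
    {I : Type u} [Finite I] {N E : I → Subgroup G} {Om : I → Type u} [∀ i, Fintype (Om i)]
    [∀ i, DecidableEq (Om i)] {phi : ∀ i, Finset (Om i) → G} (hB : Bks S N E ⊥ Om phi)
    (hj : jj (S : Subgroup G) ≤ centralizer (Wd (S : Subgroup G) : Set G))
    (wc : WC (S : Subgroup G) ((S : Subgroup G) ⊓ centralizer (Wd (S : Subgroup G) : Set G)))
    (zQ : zc ((S : Subgroup G) ⊓ centralizer (Wd (S : Subgroup G) : Set G)) ≤ Wd (S : Subgroup G)) :
    RQ S (MZ (S : Subgroup G)) :=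
  rq_of ml ha h.toRB h.rr hj (LowW.low_bks h.toRB hB) (fun W h1 h2 h3 => hC.irr PUnit.unit W h1 h2 h3) wc zQ

/-- **`RQ` for natural blocks, one class.** -/
theorem rq_src (ml : MLK.{u, u}) (ha : AbsP.{u, u}) (h : Wide S)
    (hC : CM (S : Subgroup G) (fun _ : PUnit.{u + 1} => Wd (S : Subgroup G)))
    {ι : Type u} {N E D l : ι → Subgroup G} {q : ι → ℕ} (hN : NBs (S : Subgroup G) N E D l q)
    (hs : Src (S : Subgroup G) N l q)
    (hj : jj (S : Subgroup G) ≤ centralizer (Wd (S : Subgroup G) : Set G))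
    (wc : WC (S : Subgroup G) ((S : Subgroup G) ⊓ centralizer (Wd (S : Subgroup G) : Set G)))
    (zQ : zc ((S : Subgroup G) ⊓ centralizer (Wd (S : Subgroup G) : Set G)) ≤ Wd (S : Subgroup G)) :
    RQ S (MZ (S : Subgroup G)) :=
  rq_of ml ha h.toRB h.rr hj (LowW.low_src h.toRB hN hs) (fun W h1 h2 h3 => hC.irr PUnit.unit W h1 h2 h3) wc zQ

end Cfsg.Agent.Omega.NOThreeL.QWR.RQOf
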